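import Cfsg.Agent.SpinExt.Module

/-!
# Lifting isometries of the central quotient commuting with the odd group
-/

set_option autoImplicit false

namespace Cfsg.Agent.SpinExt

open Subgroup

universe u

variable {E : Type u} [Group E] [Finite E] {z : E} {K : Type u} [Group K] [Finite K] {κ : K →* MulAut E}

open scoped Classical in
/-- The sign of the square. -/
noncomputable def sqs (a : E) : ℂ := if a * a = 1 then 1 else -1

omit [Finite E] in
theorem sqs_ne_zero (a : E) : sqs a ≠ 0 := by unfold sqs; split_ifs <;> norm_num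

omit [Finite E] in
theorem IsEx.sqs_mul (h : IsEx z) (a b : E) : sqs (a * b) = sqs a * sqs b * pr a b := by
  classical
  obtain ⟨w, hw, hwp, hab⟩ : ∃ w : E, (w = 1 ∨ w = z) ∧ pr a b = (if w = 1 then 1 else -1) ∧ b * a = w * (a * b) := by
    rcases h.comm b a with e | e
    · exact ⟨1, Or.inl rfl, by rw [if_pos rfl, pr_eq_one]; exact e.symm, by rw [one_mul, e]⟩
    · refine ⟨z, Or.inr rfl, ?_, e⟩
      rw [if_neg h.z_ne]
      unfold pr
      rw [if_neg fun e' => h.z_ne ?_]
      have h1 : b * a = z * (b * a) := e.trans (by rw [e'])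
      exact mul_eq_right.1 h1.symm
  have hwc : ∀ g, g * w = w * g := fun g => by
    rcases hw with rfl | rfl
    · simp
    · exact (h.z_comm g).symm
  have key : a * b * (a * b) = w * (a * a * (b * b)) := by
    calc a * b * (a * b) = a * (b * a) * b := by simp only [mul_assoc]
      _ = a * w * (a * b) * b := by rw [hab]; simp only [mul_assoc]
      _ = w * (a * a * (b * b)) := by rw [hwc]; simp only [mul_assoc]
  have hz1 := h.z_ne
  have hzz := h.z_sq
  rw [hwp]
  unfold sqs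
  rw [key]
  rcases hw with rfl | rfl <;> rcases h.sq a with ea | ea <;> rcases h.sq b with eb | eb <;>
    simp [ea, eb, hz1, hzz]

omit [Finite E] in
theorem sqs_map (ψ : MulAut E) (a : E) : sqs (ψ a) = sqs a := by
  classical
  unfold sqs
  by_cases e : a * a = 1
  · rw [if_pos e, if_pos (by rw [← map_mul, e, map_one])]
  · rw [if_neg e, if_neg (fun e' => e (ψ.injective (by rw [map_mul, e', map_one])))]

omit [Finite E] in
theorem IsEx.sqs_eq_of_pv (h : IsEx z) {a b : E} (e : pv a = pv b) : sqs a = sqs b := by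
  rcases h.pv_eq e with rfl | rfl
  · rfl
  · have : (z * b) * (z * b) = b * b := by
      rw [mul_assoc, ← mul_assoc b, ← h.z_comm b, mul_assoc z b, ← mul_assoc z z, h.z_sq, one_mul]
    unfold sqs
    rw [this]

variable {a b : AddMonoid.End (Vs E)}

/-- An isometry commuting with the odd group preserves squares. -/
theorem Act.sq_eq (hA : Act z κ) (h : IsEx z) (hab : Adj a b) (hba : b * a = 1)
    (hc : ∀ k, Commute a (Tv (κ k))) {x y : E} (hxy : a (pv x) = pv y) : x * x = y * y := by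
  classical
  let s : E → E := fun x => Function.surjInv pv_surjective (a (pv x))
  have hs : ∀ x, pv (s x) = a (pv x) := fun x => Function.surjInv_eq pv_surjective _
  have hpr : ∀ x x', pr (s x) (s x') = pr x x' := fun x x' => by
    rw [← h.prV_pv, ← h.prV_pv, hs, hs, hab]
    show prV _ ((b * a) (pv x')) = _
    rw [hba]; rfl
  let g : E →* ULift.{u} ℂˣ := MonoidHom.mk' (fun x => ⟨Units.mk0 (sqs (s x) * sqs x)
    (mul_ne_zero (sqs_ne_zero _) (sqs_ne_zero _))⟩) fun x x' => by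
    refine ULift.ext _ _ (Units.ext ?_)
    show sqs (s (x * x')) * sqs (x * x') = sqs (s x) * sqs x * (sqs (s x') * sqs x')
    have e : pv (s (x * x')) = pv (s x * s x') := by rw [hs, pv_mul, pv_mul, hs, hs, map_add]
    rw [h.sqs_eq_of_pv e, h.sqs_mul, h.sqs_mul, hpr]
    have h2 : pr x x' * pr x x' = 1 := by rw [← h.prV_pv]; exact h.prV_self_mul _ _
    linear_combination (sqs (s x) * sqs (s x') * sqs x * sqs x') * h2
  have hgz : g z = 1 := ULift.ext _ _ (Units.ext (by
    show sqs (s z) * sqs z = 1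
    have e : pv (s z) = pv (1 : E) := by rw [hs, h.pv_z, map_zero, pv_one]
    rw [h.sqs_eq_of_pv e]
    simp [sqs, h.z_sq]))
  have hginv : ∀ k x, g (κ k x) = g x := fun k x => by
    refine ULift.ext _ _ (Units.ext ?_)
    show sqs (s (κ k x)) * sqs (κ k x) = sqs (s x) * sqs x
    have e : pv (s (κ k x)) = pv (κ k (s x)) := by
      rw [hs, ← Tv_pv, ← Tv_pv, hs]
      exact DFunLike.congr_fun (hc k).eq (pv x)
    rw [h.sqs_eq_of_pv e, sqs_map, sqs_map]
  have h1 : sqs (s x) * sqs x = 1 :=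
    congrArg (fun t : ULift.{u} ℂˣ => ((t.down : ℂˣ) : ℂ)) (hA.hom_eq_one h g hgz hginv x)
  rw [h.sqs_eq_of_pv ((hs x).trans hxy)] at h1
  unfold sqs at h1
  rcases h.sq x with ex | ex <;> rcases h.sq y with ey | ey <;> simp_all [h.z_ne] <;> norm_num at h1

/-- Lifting. -/
theorem Act.exists_lift (hA : Act z κ) (h : IsEx z) (hab : Adj a b) (hba : b * a = 1)
    (hc : ∀ k, Commute a (Tv (κ k))) : ∃ ψ : MulAut E, ψ z = z ∧ (∀ k, Commute ψ (κ k)) ∧ Tv ψ = a := by
  classical
  let Gr : Subgroup (E × E) :=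
    { carrier := {g | a (pv g.1) = pv g.2}
      one_mem' := by show a (pv 1) = pv 1; rw [pv_one, map_zero]
      mul_mem' := fun {g g'} (e : a (pv g.1) = pv g.2) (e' : a (pv g'.1) = pv g'.2) => by
        show a (pv (g.1 * g'.1)) = pv (g.2 * g'.2)
        rw [pv_mul, map_add, e, e', pv_mul]
      inv_mem' := fun {g} (e : a (pv g.1) = pv g.2) => by
        show a (pv g.1⁻¹) = pv g.2⁻¹
        rw [pv_inv, map_neg, e, pv_inv] }
  have hmem : ∀ {g : E × E}, g ∈ Gr → a (pv g.1) = pv g.2 := fun hg => hg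
  have hzz : ((z, z) : E × E) ∈ Gr := by show a (pv z) = pv z; rw [h.pv_z, map_zero]
  have hz1 : ((z, 1) : E × E) ∈ Gr := by show a (pv z) = pv 1; rw [h.pv_z, map_zero, pv_one]
  let d : Gr := ⟨(z, z), hzz⟩
  let c₀ : Gr := ⟨(z, 1), hz1⟩
  have hd2 : d * d = 1 := Subtype.ext (Prod.ext h.z_sq h.z_sq)
  have hdmem : ∀ {g : Gr}, g ∈ zpowers d ↔ g = 1 ∨ g = d := by
    intro g
    refine ⟨fun hg => ?_, ?_⟩
    · obtain ⟨k, rfl⟩ := Subgroup.mem_zpowers_iff.1 hg
      rcases Int.even_or_odd' k with ⟨j, rfl | rfl⟩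
      · left; rw [zpow_mul, zpow_two, hd2, one_zpow]
      · right; rw [zpow_add, zpow_one, zpow_mul, zpow_two, hd2, one_zpow, one_mul]
    · rintro (rfl | rfl)
      · exact one_mem _
      · exact Subgroup.mem_zpowers _
  haveI : (zpowers d).Normal := ⟨fun g hg x => by
    rcases hdmem.1 hg with rfl | rfl
    · simp
    · have : x * d * x⁻¹ = d := by
        rw [mul_inv_eq_iff_eq_mul]
        exact Subtype.ext (Prod.ext (h.z_comm _).symm (h.z_comm _).symm)
      rw [this]; exact Subgroup.mem_zpowers _⟩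
  have hcomm : ∀ g g' : Gr, g * g' = g' * g ∨ g * g' = d * (g' * g) := by
    intro g g'
    have e : pr (g.1.1) g'.1.1 = pr g.1.2 g'.1.2 := by
      rw [← h.prV_pv, ← h.prV_pv, ← hmem g.2, ← hmem g'.2, hab]
      show _ = prV _ ((b * a) _)
      rw [hba]; rfl
    by_cases e1 : g.1.1 * g'.1.1 = g'.1.1 * g.1.1
    · exact Or.inl (Subtype.ext (Prod.ext e1 (pr_eq_one.1 (e ▸ pr_eq_one.2 e1))))
    · refine Or.inr (Subtype.ext (Prod.ext ((h.comm _ _).resolve_left e1) ((h.comm _ _).resolve_left fun e2 => e1 ?_)))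
      exact pr_eq_one.1 (e.trans (pr_eq_one.2 e2))
  letI : CommGroup (Gr ⧸ zpowers d) := { (inferInstance : Group (Gr ⧸ zpowers d)) with
    mul_comm := fun x y => by
      obtain ⟨x, rfl⟩ := QuotientGroup.mk'_surjective _ x
      obtain ⟨y, rfl⟩ := QuotientGroup.mk'_surjective _ y
      rw [← map_mul, ← map_mul]
      rcases hcomm x y with e | e <;> rw [e]
      rw [map_mul _ d, show QuotientGroup.mk' (zpowers d) d = 1 from (QuotientGroup.eq_one_iff d).2 (Subgroup.mem_zpowers d)]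
      exact one_mul _ }
  let κ₂ : K →* MulAut (E × E) :=
    { toFun := fun k => (κ k).prodCongr (κ k)
      map_one' := MulEquiv.ext fun g => by simp [MulEquiv.prodCongr]
      map_mul' := fun k k' => MulEquiv.ext fun g => by simp [MulEquiv.prodCongr]; rfl }
  have hk : ∀ k, ∀ g ∈ Gr, κ₂ k g ∈ Gr := fun k g hg => by
    show a (pv (κ k g.1)) = pv (κ k g.2)
    rw [← Tv_pv, ← Tv_pv, ← hmem hg]
    exact DFunLike.congr_fun (hc k).eq (pv g.1)
  have hkd : ∀ k, resHom κ₂ Gr hk k d = d := fun k =>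
    Subtype.ext (Prod.ext (hA.fix_z k) (hA.fix_z k))
  have hk' : ∀ k, ∀ g ∈ zpowers d, resHom κ₂ Gr hk k g ∈ zpowers d := fun k g hg => by
    rcases hdmem.1 hg with rfl | rfl
    · rw [map_one]; exact one_mem _
    · rw [hkd]; exact Subgroup.mem_zpowers _
  let q := QuotientGroup.mk' (zpowers d)
  have hqeq : ∀ g : Gr, q g = 1 ↔ g = 1 ∨ g = d := fun g => (QuotientGroup.eq_one_iff g).trans hdmem
  have hq2 : q c₀ * q c₀ = 1 := by
    rw [← map_mul, show c₀ * c₀ = 1 from Subtype.ext (Prod.ext h.z_sq (one_mul 1)), map_one]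
  have hqc : q c₀ ≠ 1 := fun e => by
    rcases (hqeq _).1 e with e | e
    · exact h.z_ne (congrArg (fun g : Gr => g.1.1) e)
    · exact h.z_ne (congrArg (fun g : Gr => g.1.2) e).symm
  obtain ⟨f, hf, hfc, hfinv, -⟩ := exists_norm (quotHom (resHom κ₂ Gr hk) _ hk') hA.odd hq2
    (fun k => congrArg q (Subtype.ext (Prod.ext (hA.fix_z k) (map_one (κ k))))) fun x hx => by
      obtain ⟨g, rfl⟩ := QuotientGroup.mk'_surjective _ x
      have h1 : g.1.1 ∈ zpowers z := hA.fpf _ fun k => by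
        have e : q (resHom κ₂ Gr hk k g * g⁻¹) = 1 := by
          rw [map_mul, map_inv, mul_inv_eq_one]; exact hx k
        rw [h.mem_zpowers]
        rcases (hqeq _).1 e with e | e
        · exact Or.inl (congrArg (fun g : Gr => g.1.1) e)
        · exact Or.inr (congrArg (fun g : Gr => g.1.1) e)
      have h2 : g.1.2 ∈ zpowers z := by
        rw [← h.pv_eq_zero, ← hmem g.2, h.pv_eq_zero.2 h1, map_zero]
      rcases h.mem_zpowers.1 h1 with e1 | e1 <;> rcases h.mem_zpowers.1 h2 with e2 | e2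
      · exact Or.inl ((hqeq g).2 (Or.inl (Subtype.ext (Prod.ext e1 e2))))
      · right
        have : g = d * c₀ := Subtype.ext (Prod.ext (by show g.1.1 = z * z; rw [e1, h.z_sq])
          (by show g.1.2 = z * 1; rw [e2, mul_one]))
        rw [this, map_mul, (hqeq d).2 (Or.inr rfl), one_mul]
      · exact Or.inr (congrArg q (Subtype.ext (Prod.ext e1 e2)))
      · exact Or.inl ((hqeq g).2 (Or.inr (Subtype.ext (Prod.ext e1 e2))))
  let F : Gr →* Gr ⧸ zpowers d := f.comp q
  have hFd : F d = 1 := by show f (q d) = 1; rw [(hqeq d).2 (Or.inr rfl), map_one]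
  have hex : ∀ x, ∃ y, ∃ hg : ((x, y) : E × E) ∈ Gr, F ⟨(x, y), hg⟩ = 1 := by
    intro x
    obtain ⟨y, hy⟩ := pv_surjective (a (pv x))
    rcases hf (q ⟨(x, y), hy.symm⟩) with e | e
    · exact ⟨y, hy.symm, e⟩
    · have hgz : ((x, z * y) : E × E) ∈ Gr := by
        show a (pv x) = pv (z * y)
        rw [pv_mul, h.pv_z, zero_add, hy]
      refine ⟨z * y, hgz, ?_⟩
      have : (⟨(x, z * y), hgz⟩ : Gr) = d * c₀ * ⟨(x, y), hy.symm⟩ := Subtype.ext (Prod.ext
        (by show x = z * z * x; rw [h.z_sq, one_mul]) (by show z * y = z * 1 * y; rw [mul_one]))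
      rw [this, map_mul, map_mul, hFd, one_mul]
      show f (q c₀) * f (q _) = 1
      rw [hfc, e]; exact hq2
  have huniq : ∀ x y y', ∀ hg : ((x, y) : E × E) ∈ Gr, ∀ hg' : ((x, y') : E × E) ∈ Gr,
      F ⟨(x, y), hg⟩ = 1 → F ⟨(x, y'), hg'⟩ = 1 → y = y' := by
    intro x y y' hg hg' e e'
    rcases h.pv_eq ((hmem (g := (x, y)) hg).symm.trans (hmem (g := (x, y')) hg')) with (h1 : y = y') | (h1 : y = z * y')
    · exact h1
    exfalso
    have : (⟨(x, y), hg⟩ : Gr) = d * c₀ * ⟨(x, y'), hg'⟩ := Subtype.ext (Prod.ext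
      (by show x = z * z * x; rw [h.z_sq, one_mul]) (by show y = z * 1 * y'; rw [mul_one, h1]))
    rw [this, map_mul, map_mul, hFd, e', one_mul, mul_one] at e
    exact hqc (hfc.symm.trans e)
  choose ψ hψ hψF using hex
  have hmul : ∀ x x', ψ (x * x') = ψ x * ψ x' := fun x x' =>
    huniq _ _ _ (hψ _) (Gr.mul_mem (hψ x) (hψ x')) (hψF _) (by
      show F (⟨(x, ψ x), hψ x⟩ * ⟨(x', ψ x'), hψ x'⟩) = 1
      rw [map_mul, hψF, hψF, one_mul])
  have hψz : ψ z = z := huniq _ _ _ (hψ z) hzz (hψF z) hFd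
  have hinj : Function.Injective ψ := by
    let ψh : E →* E := MonoidHom.mk' ψ hmul
    refine (injective_iff_map_eq_one ψh).2 fun x (hx : ψ x = 1) => ?_
    have h1 : a (pv x) = 0 := by rw [hmem (hψ x)]; show pv (ψ x) = 0; rw [hx, pv_one]
    have h2 : pv x = 0 := by
      have := congrArg b h1
      rw [map_zero] at this
      rw [← this]
      show pv x = (b * a) (pv x)
      rw [hba]; rfl
    rcases h.mem_zpowers.1 (h.pv_eq_zero.1 h2) with e | e
    · exact e
    · exfalso; rw [e, hψz] at hx; exact h.z_ne hx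
  refine ⟨MulEquiv.ofBijective (MonoidHom.mk' ψ hmul) (Finite.injective_iff_bijective.1 hinj), hψz,
    fun k => MulEquiv.ext fun x => ?_, End.ext_pv fun x => (hmem (hψ x)).symm⟩
  show ψ (κ k x) = κ k (ψ x)
  refine huniq _ _ _ (hψ _) (hk k _ (hψ x)) (hψF _) ?_
  show f (q (resHom κ₂ Gr hk k ⟨(x, ψ x), hψ x⟩)) = 1
  exact (hfinv k (q ⟨(x, ψ x), hψ x⟩)).trans (hψF x)

end Cfsg.Agent.SpinExt
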