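import Cfsg.Agent.SpinExt.Glue

/-!
# A pair of complementary Lagrangians interchanged by an element outside a subgroup of index two
-/

set_option autoImplicit false

namespace Cfsg.Agent.SpinExt

open Subgroup Cfsg.Agent SemidirectProduct

universe u

variable {E P : Type u} [Group E] [Finite E] [Group P] [Finite P] {z : E}

/-- Data of a pair of complementary Lagrangians. -/
structure LagPair (φ : P →* MulAut E) (z : E) (L M : Subgroup E) : Prop where
  z_notMem : z ∉ L
  comm : ∀ a ∈ L, ∀ b ∈ L, a * b = b * a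
  card : Nat.card L * Nat.card L * 2 = Nat.card E
  cardM : Nat.card M = Nat.card L
  disj : M ⊓ centralizer (L : Set E) = ⊥
  invL : ∀ p, ∀ a ∈ L, φ p a ∈ L
  invM : ∀ p, ∀ a ∈ M, φ p a ∈ M

variable {φ : P →* MulAut E} {L M : Subgroup E}

namespace LagPair

variable (D : LagPair φ z L M)
include D

theorem invC : ∀ p, ∀ c ∈ centralizer (L : Set E), φ p c ∈ centralizer (L : Set E) := fun p c hc =>
  mem_centralizer_iff.2 fun a ha => by
    have h1 := mem_centralizer_iff.1 hc (φ p⁻¹ a) (D.invL _ a ha)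
    have h2 := congrArg (φ p) h1
    simpa [map_inv] using h2

variable (h : IsEx z)
include h

theorem card_C : Nat.card (centralizer (L : Set E)) = 2 * Nat.card L := by
  have h1 := h.card_centralizer_of_not_mem D.z_notMem
  rw [← D.card] at h1
  exact Nat.eq_of_mul_eq_mul_right Nat.card_pos (h1.trans (by ring))

theorem mem_C {c : E} (hc : c ∈ centralizer (L : Set E)) : c ∈ L ∨ z * c ∈ L := by
  classical
  let f : L × Bool → centralizer (L : Set E) := fun g =>
    ⟨(if g.2 then z else 1) * (g.1 : E), mul_mem (by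
      split_ifs
      · exact h.z_mem_centralizer L
      · exact one_mem _) (mem_centralizer_iff.2 fun b hb => D.comm b hb g.1 g.1.2)⟩
  have hne : ∀ a b : L, z * (a : E) ≠ b := fun a b e => D.z_notMem (by
    have : z = (b : E) * (a : E)⁻¹ := by rw [← e, mul_inv_cancel_right]
    rw [this]; exact mul_mem b.2 (inv_mem a.2))
  have hf : Function.Injective f := by
    rintro ⟨a, x⟩ ⟨b, y⟩ e
    have e' := congrArg (fun t : centralizer (L : Set E) => (t : E)) e
    cases x <;> cases y <;> simp [f] at e' ⊢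
    · exact e'
    · exact absurd e'.symm (hne b a)
    · exact absurd e' (hne a b)
    · exact e'
  haveI := Fintype.ofFinite L
  have hb := (Nat.bijective_iff_injective_and_card f).2 ⟨hf, by rw [Nat.card_prod, D.card_C h]; simp [mul_comm]⟩
  obtain ⟨⟨a, x⟩, e⟩ := hb.2 ⟨c, hc⟩
  have e' : (if x then z else 1) * (a : E) = c := congrArg (fun t : centralizer (L : Set E) => (t : E)) e
  cases x
  · left; rw [← e']; simp
  · right; rw [← e']; simp [← mul_assoc, h.z_sq]

theorem index_C : (centralizer (L : Set E)).index = Nat.card L := by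
  have h1 := (centralizer (L : Set E)).index_mul_card
  rw [D.card_C h, ← D.card] at h1
  exact Nat.eq_of_mul_eq_mul_right (Nat.mul_pos two_pos Nat.card_pos) (h1.trans (by ring))

/-- Unique decomposition `E = M * C(L)`. -/
theorem bijective_mul :
    Function.Bijective (fun g : M × centralizer (L : Set E) => (g.1 : E) * g.2) := by
  refine (Nat.bijective_iff_injective_and_card _).2 ⟨?_, by rw [Nat.card_prod, D.card_C h, D.cardM, ← D.card]; ring⟩
  rintro ⟨b, c⟩ ⟨b', c'⟩ e
  simp only at e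
  have h1 : ((b' : E))⁻¹ * b = c' * (c : E)⁻¹ := by
    rw [eq_mul_inv_iff_mul_eq, mul_assoc, e, inv_mul_cancel_left]
  have h2 : ((b' : E))⁻¹ * b = 1 := (eq_bot_iff_forall _).1 D.disj _
    (Subgroup.mem_inf.2 ⟨M.mul_mem (M.inv_mem b'.2) b.2, h1 ▸ Subgroup.mul_mem _ c'.2 (Subgroup.inv_mem _ c.2)⟩)
  have hb : (b : E) = b' := (inv_mul_eq_one.1 h2).symm
  rw [hb] at e
  exact Prod.ext (Subtype.ext hb) (Subtype.ext (mul_left_cancel e))

theorem mem_iff {a b : E} (ha : a ∈ centralizer (L : Set E)) (hb : b ∈ centralizer (L : Set E)) :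
    (a * b ∈ L ↔ (a ∈ L ↔ b ∈ L)) := by
  rcases D.mem_C h ha with ha1 | ha1
  · rw [Subgroup.mul_mem_cancel_left L ha1]; tauto
  have hna : a ∉ L := fun e => D.z_notMem (by simpa using mul_mem ha1 (inv_mem e))
  rcases D.mem_C h hb with hb1 | hb1
  · rw [Subgroup.mul_mem_cancel_right L hb1]; tauto
  have hnb : b ∉ L := fun e => D.z_notMem (by simpa using mul_mem hb1 (inv_mem e))
  have : a * b ∈ L := by
    have h1 := mul_mem ha1 hb1
    rwa [mul_assoc z a, ← mul_assoc a z, ← h.z_comm a, mul_assoc z a b, ← mul_assoc z z, h.z_sq,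
      one_mul] at h1
  tauto

open scoped Classical in
/-- The invariant linear character of `C(L) ⋊ P`. -/
noncomputable def lam : centralizer (L : Set E) ⋊[resHom φ _ D.invC] P →* ℂˣ :=
  MonoidHom.mk' (fun g => if (g.left : E) ∈ L then 1 else -1) fun g g' => by
    have hiff : φ g.right g'.left ∈ L ↔ (g'.left : E) ∈ L := by
      refine ⟨fun e => ?_, D.invL _ _⟩
      have := D.invL g.right⁻¹ _ e
      simpa [map_inv] using this
    have := D.mem_iff h g.left.2 (D.invC g.right _ g'.left.2)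
    rw [hiff] at this
    have hl : ((g * g').left : E) = (g.left : E) * φ g.right g'.left := rfl
    rw [hl]
    by_cases h1 : (g.left : E) ∈ L <;> by_cases h2 : (g'.left : E) ∈ L <;> simp [this, h1, h2]

/-- The spin character induced from `C(L) ⋊ P`. -/
noncomputable def chi : E ⋊[φ] P → ℂ := indC φ (centralizer (L : Set E)) D.invC (fun g => (D.lam h g : ℂ))

theorem isSpin_chi (hz : ∀ p, φ p z = z) : IsSpin (inl z) (Nat.card E) (D.chi h) := by
  refine isSpin_indC h hz _ D.invC (h.z_mem_centralizer L) _ (Char.isCharacter_hom _) 1 (by simp)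
    ?_ (by rw [D.index_C h, D.card_C h])
  simp [lam, D.z_notMem]

open scoped Classical in
theorem chi_inr (hz : ∀ p, φ p z = z) (x : P) :
    D.chi h (inr x) = (Nat.card {b : M // φ x (b : E) = b} : ℂ) := by
  letI := Fintype.ofFinite (E ⋊[φ] P)
  haveI := Fintype.ofFinite M
  haveI := Fintype.ofFinite P
  haveI := Fintype.ofFinite (centralizer (L : Set E))
  set C := centralizer (L : Set E) with hC
  have hinj := incl_injective φ C D.invC
  let θ := fun g : (incl φ C D.invC).range => (D.lam h ((MonoidHom.ofInjective hinj).symm g) : ℂ)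
  let β : (M × C) × P ≃ E ⋊[φ] P :=
    (Equiv.prodCongr (Equiv.ofBijective _ (D.bijective_mul h)) (Equiv.refl P)).trans SemidirectProduct.equivProd.symm
  have hval : ∀ g : (M × C) × P, extendByZero (incl φ C D.invC).range θ ((β g)⁻¹ * inr x * β g) =
      if φ x (g.1.1 : E) = g.1.1 then 1 else 0 := by
    rintro ⟨⟨b, c⟩, p⟩
    have hβ : β ((b, c), p) = ⟨(b : E) * c, p⟩ := rfl
    have hconj : (β ((b, c), p))⁻¹ * inr x * β ((b, c), p) =
        ⟨φ p⁻¹ ((c : E)⁻¹ * ((b : E)⁻¹ * φ x b) * φ x c), p⁻¹ * x * p⟩ := by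
      rw [hβ]
      refine SemidirectProduct.ext ?_ ?_
      · simp [map_inv, mul_assoc]
      · simp
    rw [hconj]
    have hxc : φ x (c : E) ∈ C := D.invC x c c.2
    split_ifs with hb
    · have hmem : (c : E)⁻¹ * φ x c ∈ L := by
        rcases D.mem_C h c.2 with h1 | h1
        · exact mul_mem (inv_mem h1) (D.invL x _ h1)
        · have h2 := mul_mem (inv_mem h1) (D.invL x _ h1)
          simpa [map_mul, hz, mul_assoc] using h2
      have e : (⟨φ p⁻¹ ((c : E)⁻¹ * ((b : E)⁻¹ * φ x b) * φ x c), p⁻¹ * x * p⟩ : E ⋊[φ] P) =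
          incl φ C D.invC ⟨⟨φ p⁻¹ ((c : E)⁻¹ * φ x c), D.invC _ _ (mul_mem (inv_mem c.2) hxc)⟩, p⁻¹ * x * p⟩ := by
        refine SemidirectProduct.ext ?_ rfl
        simp only at hb
        show φ p⁻¹ _ = φ p⁻¹ _
        rw [hb, inv_mul_cancel, mul_one]
      rw [e, Char.extendByZero_of_mem _ _ (MonoidHom.mem_range.2 ⟨_, rfl⟩)]
      simp only [θ]
      have hs : ∀ y (hy : incl φ C D.invC y ∈ (incl φ C D.invC).range),
          (MonoidHom.ofInjective hinj).symm ⟨incl φ C D.invC y, hy⟩ = y := fun y hy =>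
        (MulEquiv.symm_apply_eq _).2 (Subtype.ext rfl)
      have hl := D.invL p⁻¹ _ hmem
      rw [hs]
      simp [lam] at hl ⊢
      simp [hl]
    · refine Char.extendByZero_of_not_mem _ _ fun ⟨y, hy⟩ => hb ?_
      have h1 : φ p⁻¹ ((c : E)⁻¹ * ((b : E)⁻¹ * φ x b) * φ x c) ∈ C := by
        have := congrArg SemidirectProduct.left hy
        simp only [incl, map_left] at this
        rw [← this]
        exact y.left.2
      have h2 := D.invC p _ h1
      rw [← MulAut.mul_apply, ← map_mul, mul_inv_cancel, map_one, MulAut.one_apply] at h2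
      have h3 : (b : E)⁻¹ * φ x b ∈ C := by
        have := mul_mem (mul_mem c.2 h2) (inv_mem hxc)
        simpa [mul_assoc] using this
      exact (inv_mul_eq_one.1 ((eq_bot_iff_forall _).1 D.disj _
        (Subgroup.mem_inf.2 ⟨M.mul_mem (M.inv_mem b.2) (D.invM x _ b.2), h3⟩))).symm
  show indFun _ θ (inr x) = _
  simp only [indFun]
  rw [← Equiv.sum_comp β, Finset.sum_congr rfl fun g _ => hval g]
  have e : {g : (M × C) × P // φ x (g.1.1 : E) = g.1.1} ≃ ({b : M // φ x (b : E) = b} × C) × P :=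
    { toFun := fun g => ((⟨g.1.1.1, g.2⟩, g.1.1.2), g.1.2)
      invFun := fun g => ⟨((g.1.1.1, g.1.2), g.2), g.1.1.2⟩
      left_inv := fun g => rfl
      right_inv := fun g => rfl }
  rw [Finset.sum_boole, ← Fintype.card_subtype, ← Nat.card_eq_fintype_card, Nat.card_congr e,
    ← Nat.card_congr (MonoidHom.ofInjective hinj).toEquiv, SemidirectProduct.card, Nat.card_prod, Nat.card_prod,
    Nat.card_eq_fintype_card (α := C), Nat.card_eq_fintype_card (α := P)]
  have h1 : (Fintype.card C : ℂ) ≠ 0 := Nat.cast_ne_zero.2 Fintype.card_ne_zero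
  have h2 : (Fintype.card P : ℂ) ≠ 0 := Nat.cast_ne_zero.2 Fintype.card_ne_zero
  push_cast
  field_simp

theorem card_fixed (hz : ∀ p, φ p z = z) (x : P) :
    Nat.card {b : M // φ x (b : E) = b} = Nat.card {a : L // φ x (a : E) = a} := by
  classical
  letI : CommGroup L := { (inferInstance : Group L) with
    mul_comm := fun a b => Subtype.ext (D.comm a a.2 b b.2) }
  let δ : L →* L := MonoidHom.mk' (fun a => resHom φ L D.invL x a * a⁻¹) fun a b => by
    simp only [map_mul, mul_inv, mul_mul_mul_comm]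
  let I : Subgroup E := δ.range.map L.subtype
  have hker : Nat.card δ.ker = Nat.card {a : L // φ x (a : E) = a} := Nat.card_congr (Equiv.subtypeEquivRight
    fun a => by
      show resHom φ L D.invL x a * a⁻¹ = 1 ↔ _
      rw [mul_inv_eq_one, Subtype.ext_iff, resHom_apply])
  have hI : Nat.card δ.ker * Nat.card I = Nat.card L := by
    rw [show Nat.card I = Nat.card δ.range from
      (Nat.card_congr (δ.range.equivMapOfInjective L.subtype L.subtype_injective).toEquiv).symm,
      ← Subgroup.index_ker, mul_comm, Subgroup.index_mul_card]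
  have hIL : I ≤ L := map_subtype_le _
  have hgen : ∀ {e : E}, (∀ a : L, pr e (φ x a * (a : E)⁻¹) = 1) → e ∈ centralizer (I : Set E) := fun {e} he =>
    mem_centralizer_iff.2 fun y hy => by
      obtain ⟨_, ⟨a, rfl⟩, rfl⟩ := hy
      exact (pr_eq_one.1 (he a)).symm
  have hinv : ∀ e a : E, pr e a⁻¹ = pr e a := fun e a => by
    have h1 : pr e a * pr e a⁻¹ = 1 := by rw [← h.pr_mul_right, mul_inv_cancel]; exact pr_eq_one.2 (by simp)
    have h2 : pr e a * pr e a = 1 := by
      rw [← h.pr_mul_right]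
      rcases h.sq a with e1 | e1 <;> rw [e1]
      · exact pr_eq_one.2 (by simp)
      · exact pr_eq_one.2 (h.z_comm e).symm
    exact mul_left_cancel₀ (pr_ne_zero e a) (h1.trans h2.symm)
  have hiff : ∀ b : M, (b : E) ∈ centralizer (I : Set E) ↔ φ x (b : E) = b := by
    intro b
    constructor
    · intro hb
      have hall : ∀ a ∈ L, pr ((φ x).symm (b : E) * (b : E)⁻¹) a = 1 := by
        intro a ha
        have h1 : pr (b : E) (φ x a * a⁻¹) = 1 :=
          pr_eq_one.2 (mem_centralizer_iff.1 hb _ ⟨_, ⟨⟨a, ha⟩, rfl⟩, rfl⟩).symm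
        rw [h.pr_mul_right, hinv] at h1
        rw [h.pr_mul_left, pr_comm (b : E)⁻¹, hinv, pr_comm a, ← pr_map (φ x), MulEquiv.apply_symm_apply]
        exact h1
      have h2 : (φ x).symm (b : E) * (b : E)⁻¹ = 1 := (eq_bot_iff_forall _).1 D.disj _
        (Subgroup.mem_inf.2 ⟨M.mul_mem (by
          have := D.invM x⁻¹ _ b.2
          rw [map_inv] at this
          exact this) (M.inv_mem b.2),
          mem_centralizer_iff.2 fun a ha => (pr_eq_one.1 (hall a ha)).symm⟩)
      exact ((MulEquiv.symm_apply_eq _).1 (mul_inv_eq_one.1 h2)).symm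
    · intro hb
      refine hgen fun a => ?_
      rw [h.pr_mul_right, hinv]
      conv_lhs => arg 1; rw [← hb, pr_map]
      rw [← h.pr_mul_right]
      rcases h.sq (a : E) with e1 | e1 <;> rw [e1]
      · exact pr_eq_one.2 (by simp)
      · exact pr_eq_one.2 (h.z_comm _).symm
  have hC : ∀ c : centralizer (L : Set E), (c : E) ∈ centralizer (I : Set E) :=
    fun c => centralizer_le hIL c.2
  have hCI : Nat.card (centralizer (I : Set E)) =
      Nat.card {b : M // φ x (b : E) = b} * (2 * Nat.card L) := by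
    rw [← D.card_C h, ← Nat.card_prod]
    refine (Nat.card_congr (Equiv.ofBijective
      (fun g : {b : M // φ x (b : E) = b} × centralizer (L : Set E) =>
        (⟨(g.1.1 : E) * g.2, mul_mem ((hiff _).2 g.1.2) (hC g.2)⟩ : centralizer (I : Set E))) ⟨?_, ?_⟩)).symm
    · rintro ⟨b, c⟩ ⟨b', c'⟩ e
      have := (D.bijective_mul h).1 (a₁ := (b.1, c)) (a₂ := (b'.1, c')) (congrArg (fun t : centralizer (I : Set E) => (t : E)) e)
      exact Prod.ext (Subtype.ext (congrArg (fun g : M × centralizer (L : Set E) => g.1) this))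
        (congrArg (fun g : M × centralizer (L : Set E) => g.2) this)
    · rintro ⟨e, he⟩
      obtain ⟨⟨b, c⟩, rfl⟩ := (D.bijective_mul h).2 e
      refine ⟨(⟨b, (hiff b).1 ?_⟩, c), rfl⟩
      have := mul_mem he (inv_mem (hC c))
      simpa [mul_assoc] using this
  have h3 := h.card_centralizer_of_not_mem (R := I) (fun e => D.z_notMem (hIL e))
  rw [hCI, ← D.card] at h3
  rw [← hker]
  have h4 : Nat.card {b : M // φ x (b : E) = b} * Nat.card I = Nat.card δ.ker * Nat.card I := by
    rw [hI]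
    exact Nat.eq_of_mul_eq_mul_right (Nat.mul_pos two_pos (Nat.card_pos (α := L))) (by linarith)
  exact Nat.eq_of_mul_eq_mul_right Nat.card_pos h4

end LagPair

theorem pair {φ : P →* MulAut E} (h : IsEx z) (hz : ∀ p, φ p z = z) (P₀ : Subgroup P) [P₀.Normal]
    (hidx : P₀.index = 2) (t : P) (ht : t ∉ P₀) {L M : Subgroup E}
    (D : LagPair (φ.comp P₀.subtype) z L M) (htL : ∀ a ∈ L, φ t a ∈ M) (htM : ∀ b ∈ M, φ t b ∈ L) :
    Spin φ z := by
  classical
  have hz0 : ∀ x : P₀, (φ.comp P₀.subtype) x z = z := fun x => hz x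
  let g : P₀ →* P₀ := (MulAut.conjNormal t : MulAut P₀).toMonoidHom
  let F : E ⋊[φ.comp P₀.subtype] P₀ →* E ⋊[φ.comp P₀.subtype] P₀ :=
    SemidirectProduct.map (φ t).toMonoidHom g fun x => MonoidHom.ext fun b => by
      show φ t (φ x b) = φ ((MulAut.conjNormal t x : P₀) : P) (φ t b)
      rw [MulAut.conjNormal_apply]
      simp [map_mul]
  set χ₁ := D.chi h with hχ₁def
  have hχ₁ : IsSpin (inl z) (Nat.card E) χ₁ := D.isSpin_chi h hz0
  let χ₂ := fun y => χ₁ (F y)
  have hχ₂ : IsSpin (inl z) (Nat.card E) χ₂ :=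
    hχ₁.comp F (SemidirectProduct.ext (by simp [F, hz]) (by simp [F]))
  have hres : (fun e : E => χ₁ (inl e)) = fun e => χ₂ (inl e) := IsSpin.eq h hχ₁.res hχ₂.res
  let N := (inl : E →* E ⋊[φ.comp P₀.subtype] P₀).range
  haveI : N.Normal := by show (inl : E →* E ⋊[φ.comp P₀.subtype] P₀).range.Normal; rw [range_inl_eq_ker_rightHom]; infer_instance
  obtain ⟨dat⟩ := ProjExt.exists_data (hχ₁.irr_inl h) (fun g n => Char.isClassFunction_of_isCharacter hχ₁.1 _ g)
  obtain ⟨μ, hμN, hμ⟩ := dat.eq_twist hχ₁.1 hχ₂.1 (fun _ => rfl) (fun n => by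
    obtain ⟨_, e, rfl⟩ := n
    exact (congrFun hres e).symm)
  have hval : ∀ x : P₀, χ₂ (inr x) = χ₁ (inr x) := by
    intro x
    have e1 : F (inr x) = inr (g x) := SemidirectProduct.ext (by simp [F]) (by simp [F])
    show χ₁ (F (inr x)) = _
    rw [e1, hχ₁def, D.chi_inr h hz0, D.chi_inr h hz0, D.card_fixed h hz0 x]
    norm_cast
    refine (Nat.card_congr ((Equiv.ofBijective (fun a : L => (⟨φ t a, htL a a.2⟩ : M))
      ((Nat.bijective_iff_injective_and_card _).2 ⟨fun a a' e => Subtype.ext ((φ t).injective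
        (congrArg (fun b : M => (b : E)) e)), D.cardM.symm⟩)).subtypeEquiv fun a => ?_)).symm
    show φ x (a : E) = a ↔ φ ((MulAut.conjNormal t x : P₀) : P) (φ t a) = φ t a
    rw [MulAut.conjNormal_apply, ← MulAut.mul_apply, ← map_mul, inv_mul_cancel_right, map_mul, MulAut.mul_apply,
      (φ t).injective.eq_iff]
  have hμ1 : ∀ y, (μ y : ℂ) = 1 := by
    intro y
    rw [← inl_left_mul_inr_right y, map_mul, hμN ⟨_, _, rfl⟩, one_mul]
    have h1 := hμ (inr y.right)
    rw [hval] at h1
    refine (mul_eq_right₀ ?_).1 h1.symm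
    rw [hχ₁def, D.chi_inr h hz0, Nat.cast_ne_zero]
    exact (Nat.card_pos_iff.2 ⟨⟨⟨1, by simp⟩⟩, inferInstance⟩).ne'
  refine spin_extend h P₀ (isCyclic_of_index_two P₀ hidx) χ₁ hχ₁
    (inv_of_gen P₀ hidx t ht χ₁ hχ₁.1 fun e y => ?_)
  have h1 := hμ ⟨e, y⟩
  rw [hμ1, one_mul] at h1
  refine Eq.trans (congrArg χ₁ ?_) h1
  exact SemidirectProduct.ext (by simp [F]) (Subtype.ext (by simp [F, g]))

end Cfsg.Agent.SpinExt
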