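import Cfsg.Agent.SpinExt.Ring
import Cfsg.Agent.SpinExt.Pair
import Cfsg.Agent.SpinExt.Lift
import Mathlib.FieldTheory.Finite.Basic
import Mathlib.Algebra.CharP.Two
import Mathlib.Algebra.Algebra.ZMod

/-!
# Extension of spin characters over a two-group normalising a fixed point free odd group
-/

set_option autoImplicit false

namespace Cfsg.Agent.SpinExt

open Subgroup Cfsg.Agent SemidirectProduct

universe u

variable {E P K : Type u} [Group E] [Finite E] [Group P] [Finite P] [Group K] [Finite K] {z : E}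
  {φ : P →* MulAut E} {κ : K →* MulAut E}

/-- The case of a cyclic image. -/
theorem spin_of_cyclic (h : IsEx z) (hz : ∀ p, φ p z = z) (hcyc : IsCyclic φ.range) : Spin φ z := by
  refine Spin.comp φ.rangeRestrict (ψ := φ.range.subtype) (fun p => rfl) ?_
  obtain ⟨χ, hχ⟩ := exists_spin h
  haveI := hcyc
  let pr₁ : E ⋊[φ.range.subtype.comp (⊥ : Subgroup φ.range).subtype] (⊥ : Subgroup φ.range) →* E :=
    MonoidHom.mk' (fun g => g.left) fun a b => by
      have h1 : (a.right : φ.range) = 1 := Subgroup.mem_bot.1 a.right.2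
      simp [h1]
  refine spin_extend h ⊥ (isCyclic_of_surjective _ (QuotientGroup.mk'_surjective (⊥ : Subgroup φ.range)))
    (fun g => χ (pr₁ g)) (hχ.comp pr₁ (by simp [pr₁])) fun q e x => ?_
  obtain ⟨_, p, rfl⟩ := q
  exact (congrFun (IsSpin.eq h hχ (hχ.comp (φ p).toMonoidHom (hz p))) e).symm

/-- The case of an idempotent. -/
theorem spin_of_split (IH : Below.{u} (Nat.card E)) (h : IsEx z) (hC : Cfg z φ κ) (hZ : zpowers z ≠ ⊤)
    (P₀ : Subgroup P) [P₀.Normal] (hidx : P₀.index = 2) (t : P) (ht : t ∉ P₀) {a : AddMonoid.End (Vs E)}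
    (haA : a ∈ A0 κ) (haid : a * a = a) (hinv : ∀ x ∈ P₀, cj φ x a = a) (hta : cj φ t a = 1 - a)
    (hadj : Adj a a ∨ Adj a (1 - a)) : Spin φ z := by
  let A : Subgroup E :=
    { carrier := {x | a (pv x) = pv x}
      one_mem' := by show a (pv 1) = pv 1; rw [pv_one, map_zero]
      mul_mem' := fun {x y} (hx : a (pv x) = pv x) (hy : a (pv y) = pv y) => by
        show a (pv (x * y)) = pv (x * y); rw [pv_mul, map_add, hx, hy]
      inv_mem' := fun {x} (hx : a (pv x) = pv x) => by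
        show a (pv x⁻¹) = pv x⁻¹; rw [pv_inv, map_neg, hx] }
  let B : Subgroup E :=
    { carrier := {x | a (pv x) = 0}
      one_mem' := by show a (pv 1) = 0; rw [pv_one, map_zero]
      mul_mem' := fun {x y} (hx : a (pv x) = 0) (hy : a (pv y) = 0) => by
        show a (pv (x * y)) = 0; rw [pv_mul, map_add, hx, hy, add_zero]
      inv_mem' := fun {x} (hx : a (pv x) = 0) => by
        show a (pv x⁻¹) = 0; rw [pv_inv, map_neg, hx, neg_zero] }
  have hA : ∀ {x}, x ∈ A ↔ a (pv x) = pv x := Iff.rfl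
  have hB : ∀ {x}, x ∈ B ↔ a (pv x) = 0 := Iff.rfl
  have hzA : z ∈ A := by rw [hA, h.pv_z, map_zero]
  have hzB : z ∈ B := by rw [hB, h.pv_z, map_zero]
  have hAx : ∀ x : P₀, ∀ y ∈ A, φ x y ∈ A := fun x y hy => by
    have h1 := cj_apply_Tv φ x a (pv y)
    rw [hinv x x.2, hA.1 hy, Tv_pv] at h1
    exact h1
  have hBx : ∀ x : P₀, ∀ y ∈ B, φ x y ∈ B := fun x y hy => by
    have h1 := cj_apply_Tv φ x a (pv y)
    rw [hinv x x.2, hB.1 hy, map_zero, Tv_pv] at h1
    exact h1
  have htA : ∀ y ∈ A, φ t y ∈ B := fun y hy => by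
    have h1 := cj_apply_Tv φ t a (pv y)
    rw [hta, hA.1 hy, Tv_pv] at h1
    exact sub_eq_self.1 (show pv (φ t y) - a (pv (φ t y)) = pv (φ t y) from h1)
  have htB : ∀ y ∈ B, φ t y ∈ A := fun y hy => by
    have h1 := cj_apply_Tv φ t a (pv y)
    rw [hta, hB.1 hy, map_zero, Tv_pv] at h1
    exact (sub_eq_zero.1 (show pv (φ t y) - a (pv (φ t y)) = 0 from h1)).symm
  have hAk : ∀ k, ∀ y ∈ A, κ k y ∈ A := fun k y hy => by
    rw [hA, ← Tv_pv]
    show (a * Tv (κ k)) (pv y) = _
    rw [(A0.commute haA k).eq]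
    show Tv (κ k) (a (pv y)) = _
    rw [hA.1 hy]
  have hcardAB : Nat.card A = Nat.card B := le_antisymm
    (Nat.card_le_card_of_injective (fun x : A => (⟨φ t x, htA x x.2⟩ : B))
      fun x x' e => Subtype.ext ((φ t).injective (congrArg (fun b : B => (b : E)) e)))
    (Nat.card_le_card_of_injective (fun b : B => (⟨φ t b, htB b b.2⟩ : A))
      fun x x' e => Subtype.ext ((φ t).injective (congrArg (fun b : A => (b : E)) e)))
  have hinf : A ⊓ B ≤ zpowers z := fun x hx => by
    rw [← h.pv_eq_zero, ← hA.1 hx.1, hB.1 hx.2]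
  have hcent : ∀ b, Adj a b → ∀ x, x ∈ centralizer (A : Set E) ↔ b (pv x) = 0 := by
    intro b hb x
    refine ⟨fun hx => h.prV_nondeg fun w => ?_, fun hx => mem_centralizer_iff.2 fun y hy => ?_⟩
    · obtain ⟨w', hw'⟩ := pv_surjective (a w)
      have hw'A : w' ∈ A := by
        rw [hA, hw']
        show (a * a) w = a w
        rw [haid]
      rw [prV_comm, ← hb, ← hw', h.prV_pv, pr_eq_one]
      exact mem_centralizer_iff.1 hx w' hw'A
    · have h1 : prV (pv y) (pv x) = 1 := by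
        rw [← hA.1 hy, hb, hx, h.prV_zero_right]
      rwa [h.prV_pv, pr_eq_one] at h1
  have hC0 : Cfg z (φ.comp P₀.subtype) κ :=
    { two := hC.two.to_subgroup P₀, fix_z := fun x => hC.fix_z x, act := hC.act, norm := fun x k => hC.norm x k }
  rcases hadj with hadj | hadj
  · have hCA : centralizer (A : Set E) = B := Subgroup.ext (hcent a hadj)
    have hF : Factors z A B :=
      { memA := hzA
        memB := hzB
        comm := fun x hx y hy => mem_centralizer_iff.1 (hCA.ge hy) x hx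
        inf := hinf
        card := by rw [← hCA, mul_comm]; exact h.card_centralizer_of_mem hzA }
    have hlt : Nat.card A < Nat.card E := by
      refine lt_of_le_of_ne (card_le_card_group A) fun e => hZ (eq_top_of_card_eq _ ?_)
      have h1 := hF.card
      rw [← hcardAB, e] at h1
      rw [h.card_zpowers]
      exact (Nat.eq_of_mul_eq_mul_right Nat.card_pos h1).symm
    obtain ⟨χA, hχA⟩ := IH A P₀ K ⟨z, hzA⟩ _ _ (h.of_factor hzA hF.comm fun e => hF.exists_mul h e)
      (hC0.res hzA hAx hAk) hlt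
    exact swap h hC.fix_z P₀ hidx t ht hF hAx hBx htA htB χA hχA
  · have hCA : centralizer (A : Set E) = A := by
      refine Subgroup.ext fun x => (hcent _ hadj x).trans ?_
      show pv x - a (pv x) = 0 ↔ a (pv x) = pv x
      rw [sub_eq_zero, eq_comm]
    have hAc : ∀ x ∈ A, ∀ y ∈ A, x * y = y * x := fun x hx y hy => mem_centralizer_iff.1 (hCA.ge hy) x hx
    obtain ⟨L, hLA, hzL, hLZ, -, hLφ⟩ := exists_complement hC0 h hzA hAx hAk hAc
    have hCL : centralizer (L : Set E) = A := by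
      refine le_antisymm (fun c hc => ?_) (hCA.ge.trans (centralizer_le hLA))
      rw [← hCA, mem_centralizer_iff]
      intro r hr
      rcases hLZ r hr with e | e
      · exact mem_centralizer_iff.1 hc r e
      · have e1 := mem_centralizer_iff.1 hc _ e
        rw [mul_assoc, ← mul_assoc c, ← h.z_comm c, mul_assoc] at e1
        exact mul_left_cancel e1
    have h1 := h.card_centralizer_of_not_mem hzL
    have h2 := h.card_centralizer_of_mem hzA
    rw [hCA] at h2
    rw [hCL] at h1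
    have h3 : Nat.card A = 2 * Nat.card L :=
      Nat.eq_of_mul_eq_mul_left (Nat.card_pos (α := A)) (by rw [h2, ← h1]; ring)
    let M : Subgroup E := L.map (φ t).toMonoidHom
    have D : LagPair (φ.comp P₀.subtype) z L M :=
      { z_notMem := hzL
        comm := fun x hx y hy => hAc x (hLA hx) y (hLA hy)
        card := by rw [← h1, h3]; ring
        cardM := Subgroup.card_map_of_injective (φ t).injective
        disj := by
          rw [hCL, eq_bot_iff_forall]
          rintro _ ⟨⟨l, hl, rfl⟩, hlA⟩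
          have h4 : φ t l ∈ zpowers z := hinf ⟨hlA, htA l (hLA hl)⟩
          rcases h.mem_zpowers.1 h4 with e | e
          · exact e
          · have e' : φ t l = φ t z := e.trans (hC.fix_z t).symm
            exact absurd ((φ t).injective e' ▸ hl) hzL
        invL := hLφ
        invM := by
          rintro x _ ⟨l, hl, rfl⟩
          refine ⟨φ (t⁻¹ * x * t) l, hLφ ⟨t⁻¹ * x * t, by
            have := (inferInstance : P₀.Normal).conj_mem x x.2 t⁻¹
            rwa [inv_inv] at this⟩ l hl, ?_⟩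
          show φ t (φ (t⁻¹ * x * t) l) = φ x (φ t l)
          rw [← MulAut.mul_apply, ← MulAut.mul_apply, ← map_mul, ← map_mul]
          congr 2
          group }
    refine pair h hC.fix_z P₀ hidx t ht D (fun l hl => ⟨l, hl, rfl⟩) ?_
    rintro _ ⟨l, hl, rfl⟩
    show φ t (φ t l) ∈ L
    rw [← MulAut.mul_apply, ← map_mul]
    exact hLφ ⟨t * t, Subgroup.mul_self_mem_of_index_two hidx t⟩ l hl

/-- An element of odd order inverting-conjugate to itself is trivial. -/
theorem eq_one_of_isConj_inv {k : K} (hodd : Odd (Nat.card K)) (hk : IsConj k k⁻¹) : k = 1 := by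
  obtain ⟨g, hg⟩ := isConj_iff.1 hk
  have hg2 : g * g * k * (g * g)⁻¹ = k := by
    calc g * g * k * (g * g)⁻¹ = g * (g * k * g⁻¹) * g⁻¹ := by group
      _ = g * k⁻¹ * g⁻¹ := by rw [hg]
      _ = (g * k * g⁻¹)⁻¹ := by group
      _ = k := by rw [hg, inv_inv]
  have hcg : Commute (g * g) k := mul_inv_eq_iff_eq_mul.1 hg2
  obtain ⟨m, hm⟩ := hodd
  have hgm : (g * g) ^ (m + 1) = g := by
    rw [← pow_two, ← pow_mul, show 2 * (m + 1) = Nat.card K + 1 by omega, pow_succ, pow_card_eq_one', one_mul]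
  have h2 := hcg.pow_left (m + 1)
  rw [hgm] at h2
  rw [h2.eq, mul_inv_cancel_right] at hg
  have hk2 : k * k = 1 := by
    nth_rewrite 2 [hg]
    exact mul_inv_cancel k
  calc k = k ^ (2 * m + 1) := by rw [pow_succ, pow_mul, pow_two, hk2, one_pow, one_mul]
    _ = 1 := by rw [← hm, pow_card_eq_one']

omit [Finite P] in
/-- The adjoint map on the centre is not the identity. -/
theorem A0.exists_not_selfAdj (h : IsEx z) (hA : Act z κ) [Nontrivial (Vs E)] :
    ∃ u ∈ A0 κ, ∃ u' ∈ A0 κ, Adj u u' ∧ u' ≠ u := by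
  classical
  haveI := Fintype.ofFinite K
  haveI : Finite (ConjClasses K) := Finite.of_surjective _ ConjClasses.mk_surjective
  haveI := Fintype.ofFinite (ConjClasses K)
  by_contra! hall
  let S : ConjClasses K → AddMonoid.End (Vs E) := fun C => ∑ k : K with ConjClasses.mk k = C, Tv (κ k)
  have hSA : ∀ C, S C ∈ A0 κ := fun C => by
    refine ⟨sum_mem fun k _ => Subring.subset_closure ⟨k, rfl⟩, Subring.mem_centralizer_iff.2 ?_⟩
    rintro _ ⟨j, rfl⟩
    show Tv (κ j) * S C = S C * Tv (κ j)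
    simp only [S, Finset.mul_sum, Finset.sum_mul, ← map_mul]
    refine Finset.sum_equiv (MulAut.conj j).toEquiv (fun k => ?_) fun k _ => by simp
    simp only [Finset.mem_filter, Finset.mem_univ, true_and]
    rw [show ConjClasses.mk ((MulAut.conj j).toEquiv k) = ConjClasses.mk k from
      (ConjClasses.mk_eq_mk_iff_isConj.2 (isConj_iff.2 ⟨j, rfl⟩)).symm]
  let invC : ConjClasses K → ConjClasses K := fun C =>
    Quotient.liftOn C (fun k => ConjClasses.mk k⁻¹) fun x y (hxy : IsConj x y) =>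
      ConjClasses.mk_eq_mk_iff_isConj.2 (by
        obtain ⟨c, hc⟩ := isConj_iff.1 hxy
        exact isConj_iff.2 ⟨c, by rw [← hc]; group⟩)
  have hinvC : ∀ k : K, invC (ConjClasses.mk k) = ConjClasses.mk k⁻¹ := fun _ => rfl
  have hinv2 : ∀ C, invC (invC C) = C := fun C => by
    obtain ⟨k, rfl⟩ := ConjClasses.mk_surjective C
    rw [hinvC, hinvC, inv_inv]
  have hadj : ∀ C, Adj (S C) (S (invC C)) := fun C => by
    have h1 : S (invC C) = ∑ k : K with ConjClasses.mk k = C, Tv (κ k⁻¹) := by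
      refine Finset.sum_equiv (Equiv.inv K) (fun k => ?_) fun k _ => by simp
      simp only [Finset.mem_filter, Finset.mem_univ, true_and, Equiv.inv_apply]
      rw [← hinvC]
      exact ⟨fun e => by rw [e, hinv2], fun e => by rw [← e, hinv2]⟩
    rw [h1]
    exact h.adj_sum _ fun k _ => map_inv κ k ▸ h.adj_Tv (κ k)
  have hsum : ∑ C : ConjClasses K, S C = 0 := by
    rw [← hA.sum_eq_zero h]
    exact Finset.sum_fiberwise _ _ _
  rw [← Finset.sum_erase_add _ _ (Finset.mem_univ (ConjClasses.mk (1 : K)))] at hsum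
  have hrest : ∑ C ∈ (Finset.univ : Finset (ConjClasses K)).erase (ConjClasses.mk 1), S C = 0 := by
    refine Finset.sum_involution (fun C _ => invC C) (fun C _ => ?_) (fun C hC _ => ?_) (fun C hC => ?_)
      fun C _ => hinv2 C
    · rw [hall _ (hSA C) _ (hSA _) (hadj C)]
      exact h.end_add_self _
    · obtain ⟨k, rfl⟩ := ConjClasses.mk_surjective C
      intro e
      rw [hinvC, ConjClasses.mk_eq_mk_iff_isConj] at e
      exact (Finset.mem_erase.1 hC).1 (by rw [eq_one_of_isConj_inv hA.odd e.symm])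
    · refine Finset.mem_erase.2 ⟨fun e => (Finset.mem_erase.1 hC).1 ?_, Finset.mem_univ _⟩
      rw [← hinv2 C, e, hinvC, inv_one]
  have hone : S (ConjClasses.mk 1) = 1 := by
    show ∑ k : K with ConjClasses.mk k = ConjClasses.mk 1, Tv (κ k) = 1
    rw [show (Finset.univ.filter fun k : K => ConjClasses.mk k = ConjClasses.mk 1) = {1} from
      Finset.ext fun k => by simp [ConjClasses.mk_eq_mk_iff_isConj]]
    simp
  rw [hrest, zero_add, hone] at hsum
  obtain ⟨v, hv⟩ := exists_ne (0 : Vs E)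
  exact hv (DFunLike.congr_fun hsum v)

omit [Finite E] in
/-- Ring automorphisms of a finite field of characteristic two. -/
theorem isCyclic_ringAut (F : Type u) [Field F] [Finite F] [CharP F 2] : IsCyclic (F ≃+* F) := by
  haveI : Fact (Nat.Prime 2) := ⟨Nat.prime_two⟩
  letI : Algebra (ZMod 2) F := ZMod.algebra F 2
  let e : (F ≃ₐ[ZMod 2] F) ≃* (F ≃+* F) :=
    { toFun := fun a => a.toRingEquiv
      invFun := fun a => AlgEquiv.ofRingEquiv (f := a) fun x =>
        RingHom.congr_fun (RingHom.ext_zmod ((a : F →+* F).comp (algebraMap (ZMod 2) F)) (algebraMap (ZMod 2) F)) x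
      left_inv := fun a => AlgEquiv.ext fun _ => rfl
      right_inv := fun a => RingEquiv.ext fun _ => rfl
      map_mul' := fun a b => RingEquiv.ext fun _ => rfl }
  exact isCyclic_of_surjective e.toMonoidHom e.surjective

/-- The case of a field. -/
theorem spin_of_field (IH : Below.{u} (Nat.card E)) (h : IsEx z) (hC : Cfg z φ κ) (hirr : Irred z φ κ)
    [Nontrivial (Vs E)] (hidem : ∀ i ∈ A0 κ, i * i = i → i = 0 ∨ i = 1) : Spin φ z := by
  classical
  have hone : (1 : AddMonoid.End (Vs E)) ≠ 0 := fun e => by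
    obtain ⟨v, hv⟩ := exists_ne (0 : Vs E)
    exact hv (DFunLike.congr_fun e v)
  have hinvA : ∀ x ∈ A0 κ, x ≠ 0 → ∃ y ∈ A0 κ, x * y = 1 := by
    intro x hx hx0
    have h2k : ∀ k, x ^ 2 ^ k ≠ 0 := by
      intro k
      induction k with
      | zero => simpa using hx0
      | succ k ih =>
        intro e
        rw [pow_succ, pow_mul, pow_two] at e
        exact ih (A0.eq_zero_of_sq h hC hirr (pow_mem hx _) e)
    have hne : ∀ n, x ^ n ≠ 0 := fun n e => h2k n (by
      obtain ⟨d, hd⟩ := Nat.exists_eq_add_of_le (Nat.lt_two_pow_self (n := n)).le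
      rw [hd, pow_add, e, zero_mul])
    obtain ⟨i, j, hij, e⟩ : ∃ i j, i < j ∧ x ^ i = x ^ j := by
      obtain ⟨i, j, hne', e⟩ := Finite.exists_ne_map_eq_of_infinite (fun n : ℕ => x ^ n)
      rcases lt_or_gt_of_ne hne' with hlt | hlt
      exacts [⟨i, j, hlt, e⟩, ⟨j, i, hlt, e.symm⟩]
    obtain ⟨d, rfl⟩ := Nat.exists_eq_add_of_lt hij
    have hper : ∀ c t, x ^ (i + c + t * (d + 1)) = x ^ (i + c) := by
      intro c t
      induction t with
      | zero => simp
      | succ t ih =>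
        rw [show i + c + (t + 1) * (d + 1) = (i + d + 1) + (c + t * (d + 1)) by ring, pow_add, ← e, ← pow_add,
          show i + (c + t * (d + 1)) = i + c + t * (d + 1) by ring, ih]
    obtain ⟨c, hc⟩ : ∃ c, (d + 1) * (i + 1) = i + c :=
      Nat.exists_eq_add_of_le (by nlinarith)
    have hid : x ^ (i + c) * x ^ (i + c) = x ^ (i + c) := by
      rw [← pow_add]
      nth_rewrite 2 [← hc]
      rw [mul_comm (d + 1), hper]
    rcases hidem _ (pow_mem hx _) hid with e1 | e1
    · exact absurd e1 (hne _)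
    refine ⟨x ^ (i + c - 1), pow_mem hx _, ?_⟩
    rw [← pow_succ', show i + c - 1 + 1 = i + c by
      have : 0 < i + c := hc ▸ Nat.mul_pos d.succ_pos i.succ_pos
      omega, e1]
  obtain ⟨u, hu, u', hu', huu, hne⟩ := A0.exists_not_selfAdj h hC.act
  have hu0 : u ≠ 0 := fun e => hne (by rw [e]; exact h.adj_unique (e ▸ huu) h.adj_zero)
  obtain ⟨v, hv, huv⟩ := hinvA u hu hu0
  obtain ⟨v', hv', hvv⟩ := A0.exists_adj h hv
  have hvu' : v' * u' = 1 := h.adj_unique (huv ▸ huu.mul hvv) adj_one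
  set a := u' * v with hadef
  have haA : a ∈ A0 κ := mul_mem hu' hv
  have hab : Adj a (v' * u) := huu.symm.mul hvv
  have hba : (v' * u) * a = 1 := by
    rw [hadef, mul_assoc, ← mul_assoc u, A0.comm hu hu', mul_assoc, huv, mul_one, hvu']
  have ha1 : a ≠ 1 := fun e => hne (by
    calc u' = u' * (v * u) := by rw [A0.comm hv hu, huv, mul_one]
      _ = u := by rw [← mul_assoc, ← hadef, e, one_mul])
  obtain ⟨ψ₀, hψz, hψc, hψT⟩ := hC.act.exists_lift h hab hba (A0.commute haA)
  let K' : Subgroup (MulAut E) :=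
    { carrier := {ψ | ψ z = z ∧ (∀ k, Commute ψ (κ k)) ∧ Tv ψ ∈ A0 κ}
      one_mem' := ⟨rfl, fun k => Commute.one_left _, by rw [map_one]; exact one_mem _⟩
      mul_mem' := fun {ψ ψ'} hψ hψ' => ⟨by show ψ (ψ' z) = z; rw [hψ'.1, hψ.1],
        fun k => (hψ.2.1 k).mul_left (hψ'.2.1 k), by rw [map_mul]; exact mul_mem hψ.2.2 hψ'.2.2⟩
      inv_mem' := fun {ψ} hψ => ⟨ψ.injective ((ψ.apply_symm_apply z).trans hψ.1.symm),
        fun k => (hψ.2.1 k).inv_left, by
          obtain ⟨b, hb, hψb⟩ := A0.exists_adj h hψ.2.2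
          rwa [h.adj_unique (h.adj_Tv ψ) hψb]⟩ }
  haveI : Finite (MulAut E) := Finite.of_injective (fun ψ : MulAut E => (ψ : E → E)) DFunLike.coe_injective
  have hK'one : ∀ {ψ}, ψ ∈ K' → Tv ψ = 1 → ψ = 1 := fun hψ hT => hC.act.eq_one_of_Tv h hψ.1 hψ.2.1 hT
  have hodd : Odd (Nat.card K') := by
    rw [← Nat.not_even_iff_odd, even_iff_two_dvd]
    intro hd
    haveI : Fact (Nat.Prime 2) := ⟨Nat.prime_two⟩
    obtain ⟨ψ, hψ⟩ := exists_prime_orderOf_dvd_card' (G := K') 2 hd
    have h2 : (ψ : MulAut E) * ψ = 1 := by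
      rw [← Subgroup.coe_mul, ← pow_two, ← hψ, pow_orderOf_eq_one]; rfl
    have hx : (Tv (ψ : MulAut E) + 1) * (Tv (ψ : MulAut E) + 1) = 0 := by
      rw [add_mul, mul_add, one_mul, mul_one, ← map_mul, h2, map_one]
      rw [add_comm (1 : AddMonoid.End (Vs E)) (Tv _), h.end_add_self]
    have h3 := A0.eq_zero_of_sq h hC hirr (add_mem ψ.2.2.2 (one_mem _)) hx
    rw [add_eq_zero_iff_eq_neg, h.end_neg_eq] at h3
    have h4 : ψ = 1 := Subtype.ext (hK'one ψ.2 h3)
    rw [h4, orderOf_one] at hψ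
    omega
  have hact : Act z K'.subtype :=
    { odd := hodd
      fix_z := fun ψ => ψ.2.1
      fpf := fun x hx => by
        have h1 : pv (ψ₀ x * x⁻¹) = 0 :=
          h.pv_eq_zero.2 (hx ⟨ψ₀, hψz, hψc, hψT ▸ haA⟩)
        rw [pv_mul, pv_inv, ← Tv_pv, hψT, ← sub_eq_add_neg] at h1
        obtain ⟨y, hy, hy1⟩ := hinvA (a - 1) (sub_mem haA (one_mem _)) (sub_ne_zero.2 ha1)
        rw [← h.pv_eq_zero]
        show (1 : AddMonoid.End (Vs E)) (pv x) = 0
        rw [← hy1, A0.comm (sub_mem haA (one_mem _)) hy]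
        show y (a (pv x) - pv x) = 0
        rw [h1, map_zero] }
  have hC' : Cfg z φ K'.subtype :=
    { two := hC.two
      fix_z := hC.fix_z
      act := hact
      norm := fun p ψ => by
        refine ⟨⟨φ p * ψ * φ p⁻¹, ?_, fun k => ?_, ?_⟩, ?_⟩
        · show φ p ((ψ : MulAut E) (φ p⁻¹ z)) = z
          rw [hC.fix_z, ψ.2.1, hC.fix_z]
        · obtain ⟨j, hj⟩ := hC.norm_inv p k
          have hj' : φ p⁻¹ * κ k = κ j * φ p⁻¹ := by
            rw [map_inv, inv_mul_eq_iff_eq_mul, ← mul_assoc, hj, mul_inv_cancel_right]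
          show φ p * ψ * φ p⁻¹ * κ k = κ k * (φ p * ψ * φ p⁻¹)
          rw [mul_assoc (φ p * ψ), hj', mul_assoc (φ p), ← mul_assoc (ψ : MulAut E), (ψ.2.2.1 j).eq]
          simp only [← mul_assoc, hj]
        · rw [map_mul, map_mul]
          exact hC.cj_mem p ψ.2.2.2
        · show φ p * ψ = φ p * ψ * φ p⁻¹ * φ p
          rw [map_inv, inv_mul_cancel_right] }
  by_cases hirr' : Irred z φ K'.subtype
  swap
  · exact spin_of_not_irred IH h hC' hirr'
  -- a fixed vector
  haveI : Fact (Nat.Prime 2) := ⟨Nat.prime_two⟩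
  letI : MulAction P (Vs E) :=
    { smul := fun p w => Tv (φ p) w
      one_smul := fun w => by show Tv (φ 1) w = w; rw [map_one, map_one]; rfl
      mul_smul := fun p q w => by show Tv (φ (p * q)) w = _; rw [map_mul, map_mul]; rfl }
  haveI : Finite (Vs E) := Finite.of_surjective _ pv_surjective
  obtain ⟨w₀, hw₀⟩ := exists_ne (0 : Vs E)
  have hdvd : 2 ∣ Nat.card (Vs E) := by
    rw [← addOrderOf_eq_prime (x := w₀) (p := 2) (by rw [two_nsmul]; exact h.add_self w₀) hw₀]
    exact addOrderOf_dvd_natCard w₀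
  obtain ⟨w, hw, hw0⟩ := hC.two.exists_fixed_point_of_prime_dvd_card_of_fixed_point (Vs E) hdvd
    (a := 0) fun p => map_zero (Tv (φ p))
  let W : AddSubgroup (Vs E) :=
    { carrier := {y | ∃ r ∈ A0 κ, r w = y}
      zero_mem' := ⟨0, zero_mem _, rfl⟩
      add_mem' := fun ⟨r, hr, e⟩ ⟨r', hr', e'⟩ => ⟨r + r', add_mem hr hr', by rw [← e, ← e']; rfl⟩
      neg_mem' := fun ⟨r, hr, e⟩ => ⟨-r, neg_mem hr, by rw [← e]; rfl⟩ }
  have hspan : ∀ y, ∃ r ∈ A0 κ, r w = y := by
    refine fun y => hirr'.eq_top h W ?_ ?_ ⟨w, ⟨1, one_mem _, rfl⟩, fun e => hw0 e.symm⟩ y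
    · rintro p _ ⟨r, hr, rfl⟩
      refine ⟨cj φ p r, hC.cj_mem p hr, ?_⟩
      have h1 := cj_apply_Tv φ p r w
      rwa [show Tv (φ p) w = w from hw p] at h1
    · rintro ψ _ ⟨r, hr, rfl⟩
      exact ⟨_, mul_mem ψ.2.2.2 hr, rfl⟩
  -- the kernel of the semilinear action
  have hker : ∀ p, (∀ r ∈ A0 κ, cj φ p r = r) → φ p = 1 := by
    intro p hp
    have hT : Tv (φ p) = 1 := AddMonoidHom.ext fun y => by
      obtain ⟨r, hr, rfl⟩ := hspan y
      have h1 := cj_apply_Tv φ p r w
      rw [show Tv (φ p) w = w from hw p, hp r hr] at h1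
      exact h1.symm
    refine hact.eq_one_of_Tv h (hC.fix_z p) (fun ψ => ?_) hT
    obtain ⟨ψ', hψ'⟩ := hC'.norm p ψ
    have h1 : (ψ' : MulAut E)⁻¹ * ψ = 1 := hK'one (mul_mem (inv_mem ψ'.2) ψ.2) (by
      have h2 : Tv (φ p) * Tv (ψ : MulAut E) = Tv (ψ' : MulAut E) * Tv (φ p) := by
        rw [← map_mul, ← map_mul]; exact congrArg Tv hψ'
      rw [hT, one_mul, mul_one] at h2
      rw [map_mul, h2, ← map_mul, inv_mul_cancel, map_one])
    show φ p * ψ = ψ * φ p
    conv_rhs => rw [← inv_mul_eq_one.1 h1]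
    exact hψ'
  have hfield : IsField (A0 κ) :=
    { exists_pair_ne := ⟨0, 1, fun e => hone (congrArg Subtype.val e).symm⟩
      mul_comm := fun x y => Subtype.ext (A0.comm x.2 y.2)
      mul_inv_cancel := fun {x} hx => by
        obtain ⟨y, hy, e⟩ := hinvA x x.2 fun e => hx (Subtype.ext e)
        exact ⟨⟨y, hy⟩, Subtype.ext e⟩ }
  letI := hfield.toField
  haveI : CharP (A0 κ) 2 := CharTwo.of_one_ne_zero_of_two_eq_zero one_ne_zero (by
    rw [← one_add_one_eq_two]
    exact Subtype.ext (h.end_add_self 1))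
  let ρ : P →* ((A0 κ) ≃+* (A0 κ)) :=
    { toFun := fun p =>
        { toFun := fun r => ⟨cj φ p r, hC.cj_mem p r.2⟩
          invFun := fun r => ⟨cj φ p⁻¹ r, hC.cj_mem p⁻¹ r.2⟩
          left_inv := fun r => Subtype.ext (by show cj φ p⁻¹ (cj φ p r) = _; rw [← cj_mul, inv_mul_cancel, cj_one])
          right_inv := fun r => Subtype.ext (by show cj φ p (cj φ p⁻¹ r) = _; rw [← cj_mul, mul_inv_cancel, cj_one])
          map_mul' := fun r s => Subtype.ext (map_mul (cj φ p) (r : AddMonoid.End (Vs E)) s)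
          map_add' := fun r s => Subtype.ext (map_add (cj φ p) (r : AddMonoid.End (Vs E)) s) }
      map_one' := RingEquiv.ext fun r => Subtype.ext (cj_one φ _)
      map_mul' := fun p q => RingEquiv.ext fun r => Subtype.ext (cj_mul φ p q _) }
  haveI := isCyclic_ringAut (A0 κ)
  obtain ⟨⟨_, g, rfl⟩, hg⟩ := IsCyclic.exists_generator (α := ρ.range)
  refine spin_of_cyclic h hC.fix_z ⟨⟨⟨φ g, g, rfl⟩, fun x => ?_⟩⟩
  obtain ⟨_, p, rfl⟩ := x
  obtain ⟨i, hi⟩ := Subgroup.mem_zpowers_iff.1 (hg ⟨ρ p, p, rfl⟩)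
  have hi' : ρ g ^ i = ρ p := by simpa using congrArg Subtype.val hi
  refine Subgroup.mem_zpowers_iff.2 ⟨i, Subtype.ext ?_⟩
  have h1 : φ (p * (g ^ i)⁻¹) = 1 := hker _ fun r hr => by
    have h2 : ρ (p * (g ^ i)⁻¹) = 1 := by rw [map_mul, map_inv, map_zpow, hi', mul_inv_cancel]
    exact congrArg Subtype.val (DFunLike.congr_fun h2 (⟨r, hr⟩ : A0 κ))
  rw [map_mul, map_inv, map_zpow, mul_inv_eq_one] at h1
  simpa using h1.symm

/-- The induction. -/
theorem below : ∀ n, Below.{u} n := by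
  intro n
  induction n with
  | zero => intro E P K _ _ _ _ _ _ z φ κ _ _ hlt; exact absurd hlt (Nat.not_lt_zero _)
  | succ n ih =>
    intro E P K _ _ _ _ _ _ z φ κ h hC hlt
    have IH : Below.{u} (Nat.card E) := fun E' P' K' _ _ _ _ _ _ z' φ' κ' h' hC' hlt' =>
      ih E' P' K' z' φ' κ' h' hC' (by omega)
    by_cases hZ : zpowers z = ⊤
    · exact spin_of_card_two h (fun e => h.mem_zpowers.1 (hZ ▸ Subgroup.mem_top e)) hC.fix_z
    haveI := h.nontrivial_vs hZ
    by_cases hirr : Irred z φ κ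
    swap
    · exact spin_of_not_irred IH h hC hirr
    by_cases hidem : ∀ i ∈ A0 κ, i * i = i → i = 0 ∨ i = 1
    · exact spin_of_field IH h hC hirr hidem
    push Not at hidem
    obtain ⟨i, hiA, hi, hi0, hi1⟩ := hidem
    obtain ⟨P₀, t, a, hn, hidx, ht, haA, haid, -, -, hinv, hta, hadj⟩ :=
      A0.exists_split h hC hirr hiA hi hi0 hi1
    haveI := hn
    exact spin_of_split IH h hC hZ P₀ hidx t ht haA haid hinv hta hadj

/-- Spin characters extend. -/
theorem main (h : IsEx z) (hC : Cfg z φ κ) : Spin φ z :=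
  below (Nat.card E + 1) E P K z φ κ h hC (Nat.lt_succ_self _)

end Cfsg.Agent.SpinExt
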