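import Cfsg.Agent.ProjExt.Criteria
import Cfsg.Agent.Char.Gen
import Cfsg.Agent.Char.Linear
import Cfsg.Agent.Char.Induced
import Mathlib.GroupTheory.FiniteAbelian.Duality
import Mathlib.RingTheory.IntegralDomain
import Mathlib.RingTheory.RootsOfUnity.AlgebraicallyClosed
import Mathlib.Analysis.Complex.Polynomial.Basic

/-!
# Two-groups with a central involution generating centre, squares and commutators, and their spin characters
-/

set_option autoImplicit false

namespace Cfsg.Agent.SpinExt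

open Subgroup Cfsg.Agent

universe u

/-- `E` is extraspecial or of order two, with distinguished central involution `z`. -/
structure IsEx {E : Type u} [Group E] (z : E) : Prop where
  z_ne : z ≠ 1
  z_sq : z * z = 1
  sq : ∀ a : E, a * a = 1 ∨ a * a = z
  comm : ∀ a b : E, a * b = b * a ∨ a * b = z * (b * a)
  nd : ∀ a : E, (∀ b, a * b = b * a) → a = 1 ∨ a = z

variable {E : Type u} [Group E] {z : E}

open scoped Classical in
/-- The commutator sign. -/
noncomputable def pr (a b : E) : ℂ := if a * b = b * a then 1 else -1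

theorem pr_eq_one {a b : E} : pr a b = 1 ↔ a * b = b * a := by
  unfold pr
  split_ifs with h
  · simp [h]
  · norm_num [h]

theorem pr_ne_zero (a b : E) : pr a b ≠ 0 := by
  unfold pr
  split_ifs <;> norm_num

theorem pr_comm (a b : E) : pr a b = pr b a := by
  unfold pr
  by_cases h : a * b = b * a
  · rw [if_pos h, if_pos h.symm]
  · rw [if_neg h, if_neg (fun h' => h h'.symm)]

theorem pr_map (f : MulAut E) (a b : E) : pr (f a) (f b) = pr a b := by
  unfold pr
  by_cases h : a * b = b * a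
  · rw [if_pos h, if_pos (by rw [← map_mul, ← map_mul, h])]
  · rw [if_neg h, if_neg (fun h' => h (f.injective (by rw [map_mul, map_mul, h'])))]

namespace IsEx

variable (h : IsEx z)
include h

theorem z_comm (b : E) : z * b = b * z := by
  rcases h.comm z b with h1 | h1
  · exact h1
  · exfalso
    have h2 : b = b * z := mul_left_cancel h1
    exact h.z_ne (mul_eq_left.1 h2.symm)

theorem z_inv : z⁻¹ = z := inv_eq_of_mul_eq_one_right h.z_sq

theorem mem_zpowers {a : E} : a ∈ zpowers z ↔ a = 1 ∨ a = z := by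
  refine ⟨fun ha => ?_, ?_⟩
  · obtain ⟨k, rfl⟩ := Subgroup.mem_zpowers_iff.1 ha
    rcases Int.even_or_odd' k with ⟨j, rfl | rfl⟩
    · left; rw [zpow_mul, zpow_two, h.z_sq, one_zpow]
    · right; rw [zpow_add, zpow_one, zpow_mul, zpow_two, h.z_sq, one_zpow, one_mul]
  · rintro (rfl | rfl)
    · exact one_mem _
    · exact Subgroup.mem_zpowers _

theorem zpowers_le_center : zpowers z ≤ center E :=
  zpowers_le.2 (mem_center_iff.2 fun b => (h.z_comm b).symm)

theorem zpowers_normal : (zpowers z).Normal :=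
  ⟨fun a ha g => by rw [mem_center_iff.1 (h.zpowers_le_center ha) g, mul_inv_cancel_right]; exact ha⟩

theorem commutator_mem (a b : E) : a * b * a⁻¹ * b⁻¹ = 1 ∨ a * b * a⁻¹ * b⁻¹ = z := by
  rcases h.comm a b with h1 | h1
  · left; rw [h1]; group
  · right; rw [h1]; group

theorem pr_mul_left (a a' b : E) : pr (a * a') b = pr a b * pr a' b := by
  have key : ∀ x y : E, ∃ w : E, (w = 1 ∧ pr x y = 1 ∨ w = z ∧ pr x y = -1) ∧ x * y = w * (y * x) := by
    intro x y
    by_cases hxy : x * y = y * x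
    · exact ⟨1, Or.inl ⟨rfl, pr_eq_one.2 hxy⟩, by rw [one_mul, hxy]⟩
    · refine ⟨z, Or.inr ⟨rfl, ?_⟩, (h.comm x y).resolve_left hxy⟩
      unfold pr; rw [if_neg hxy]
  obtain ⟨w, hw, hab⟩ := key a b
  obtain ⟨w', hw', hab'⟩ := key a' b
  have hwc : ∀ g, g * w' = w' * g := fun g => by
    rcases hw' with ⟨e, -⟩ | ⟨e, -⟩ <;> rw [e]
    · simp
    · exact (h.z_comm g).symm
  have hmul : a * a' * b = w' * w * (b * (a * a')) := by
    rw [mul_assoc, hab', ← mul_assoc, hwc a, mul_assoc w' a, ← mul_assoc a b, hab]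
    simp only [mul_assoc]
  have hiff : a * a' * b = b * (a * a') ↔ w' * w = 1 := by rw [hmul, mul_eq_right]
  have hzz := h.z_sq
  have hz1 := h.z_ne
  rcases hw with ⟨rfl, e⟩ | ⟨rfl, e⟩ <;> rcases hw' with ⟨rfl, e'⟩ | ⟨rfl, e'⟩ <;>
    rw [e, e'] <;> unfold pr
  · rw [if_pos (hiff.2 (mul_one 1))]; norm_num
  · rw [if_neg (fun e => hz1 (by simpa using hiff.1 e))]; norm_num
  · rw [if_neg (fun e => hz1 (by simpa using hiff.1 e))]; norm_num
  · rw [if_pos (hiff.2 hzz)]; norm_num

theorem pr_mul_right (a b b' : E) : pr a (b * b') = pr a b * pr a b' := by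
  rw [pr_comm, h.pr_mul_left, pr_comm b, pr_comm b']

variable [Finite E]

open scoped Classical in
/-- Counting with the commutator sign. -/
theorem card_centralizer_mul (R : Subgroup E) :
    Nat.card (centralizer (R : Set E)) * Nat.card R = Nat.card E * Nat.card ↥(R ⊓ zpowers z) := by
  haveI := Fintype.ofFinite E
  let S : ℂ := ∑ a : E, ∑ r : R, pr a (r : E)
  have h1 : S = (Nat.card (centralizer (R : Set E)) : ℂ) * Nat.card R := by
    have hinner : ∀ a : E, ∑ r : R, pr a (r : E) = if a ∈ centralizer (R : Set E) then (Nat.card R : ℂ) else 0 := by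
      intro a
      let f : R →* ℂ :=
        { toFun := fun r => pr a (r : E)
          map_one' := pr_eq_one.2 (by simp)
          map_mul' := fun r r' => h.pr_mul_right a r r' }
      split_ifs with ha
      · rw [Finset.sum_congr rfl fun (r : R) _ => pr_eq_one.2 (mem_centralizer_iff.1 ha r r.2).symm]
        simp [Nat.card_eq_fintype_card]
      · refine sum_hom_units_eq_zero f fun hf => ha (mem_centralizer_iff.2 fun r hr => ?_)
        exact (pr_eq_one.1 (DFunLike.congr_fun hf (⟨r, hr⟩ : R))).symm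
    simp only [S, hinner]
    rw [← Finset.sum_filter, Finset.sum_const, nsmul_eq_mul]
    congr 1
    rw [Nat.card_eq_fintype_card]
    exact_mod_cast (Fintype.card_subtype _).symm
  have h2 : S = (Nat.card E : ℂ) * Nat.card ↥(R ⊓ zpowers z) := by
    have hinner : ∀ r : R, ∑ a : E, pr a (r : E) = if (r : E) ∈ zpowers z then (Nat.card E : ℂ) else 0 := by
      intro r
      let f : E →* ℂ :=
        { toFun := fun a => pr a (r : E)
          map_one' := pr_eq_one.2 (by simp)
          map_mul' := fun a a' => h.pr_mul_left a a' r }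
      split_ifs with hr
      · rw [Finset.sum_congr rfl fun a _ => pr_eq_one.2 (mem_center_iff.1 (h.zpowers_le_center hr) a)]
        simp [Nat.card_eq_fintype_card]
      · refine sum_hom_units_eq_zero f fun hf => hr (h.mem_zpowers.2 (h.nd r fun b => ?_))
        exact (pr_eq_one.1 (DFunLike.congr_fun hf b)).symm
    simp only [S]
    rw [Finset.sum_comm]
    simp only [hinner]
    rw [← Finset.sum_filter, Finset.sum_const, nsmul_eq_mul, mul_comm]
    congr 1
    rw [← Fintype.card_subtype, ← Nat.card_eq_fintype_card]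
    exact_mod_cast Nat.card_congr
      { toFun := fun (r : {r : R // (r : E) ∈ zpowers z}) => (⟨r.1, r.1.2, r.2⟩ : ↥(R ⊓ zpowers z))
        invFun := fun r => ⟨⟨r.1, r.2.1⟩, r.2.2⟩
        left_inv := fun _ => rfl
        right_inv := fun _ => rfl }
  exact_mod_cast h1.symm.trans h2

theorem card_zpowers : Nat.card (zpowers z) = 2 := by
  rw [Nat.card_zpowers]
  exact orderOf_eq_prime (by rw [pow_two, h.z_sq]) h.z_ne

theorem card_centralizer_of_mem {R : Subgroup E} (hz : z ∈ R) :
    Nat.card (centralizer (R : Set E)) * Nat.card R = 2 * Nat.card E := by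
  rw [h.card_centralizer_mul, inf_eq_right.2 (zpowers_le.2 hz), h.card_zpowers, mul_comm]

theorem card_centralizer_of_not_mem {R : Subgroup E} (hz : z ∉ R) :
    Nat.card (centralizer (R : Set E)) * Nat.card R = Nat.card E := by
  have : R ⊓ zpowers z = ⊥ := by
    refine (eq_bot_iff_forall _).2 fun a ha => ?_
    rcases h.mem_zpowers.1 ha.2 with h1 | h1
    · exact h1
    · exact absurd (h1 ▸ ha.1) hz
  rw [h.card_centralizer_mul, this, Subgroup.card_bot, mul_one]

theorem z_mem_centralizer (R : Subgroup E) : z ∈ centralizer (R : Set E) :=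
  mem_centralizer_iff.2 fun r _ => (h.z_comm r).symm

theorem centralizer_centralizer {R : Subgroup E} (hz : z ∈ R) :
    centralizer (centralizer (R : Set E) : Set E) = R := by
  have h1 := h.card_centralizer_of_mem hz
  have h2 := h.card_centralizer_of_mem (h.z_mem_centralizer R)
  refine (Subgroup.eq_of_le_of_card_ge (fun r hr => mem_centralizer_iff.2 fun c hc =>
    (mem_centralizer_iff.1 hc r hr).symm) (le_of_eq ?_)).symm
  exact Nat.eq_of_mul_eq_mul_right Nat.card_pos (h2.trans (h1.symm.trans (mul_comm _ _)))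

/-- A self-centralising abelian subgroup. -/
theorem exists_maxAbelian : ∃ A : Subgroup E, z ∈ A ∧ centralizer (A : Set E) = A := by
  obtain ⟨A, -, hA, hmax⟩ := Finite.exists_le_maximal
    (p := fun A : Subgroup E => z ∈ A ∧ A ≤ centralizer (A : Set E)) (a := zpowers z)
    ⟨Subgroup.mem_zpowers z, fun a ha => mem_centralizer_iff.2 fun b _ =>
      mem_center_iff.1 (h.zpowers_le_center ha) b⟩
  refine ⟨A, hA.1, le_antisymm (fun x hx => ?_) hA.2⟩
  have hle : closure (insert x (A : Set E)) ≤ centralizer (closure (insert x (A : Set E)) : Set E) := by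
    rw [centralizer_closure, closure_le]
    intro a ha
    refine mem_centralizer_iff.2 fun b hb => ?_
    rcases Set.mem_insert_iff.1 ha with h₁ | h₁ <;> rcases Set.mem_insert_iff.1 hb with h₂ | h₂
    · rw [h₁, h₂]
    · rw [h₁]; exact mem_centralizer_iff.1 hx b h₂
    · rw [h₂]; exact (mem_centralizer_iff.1 hx a h₁).symm
    · exact mem_centralizer_iff.1 (hA.2 h₁) b h₂
  have hAle : A ≤ closure (insert x (A : Set E)) := fun a ha => subset_closure (Set.mem_insert_of_mem x ha)
  exact hmax ⟨hAle hA.1, hle⟩ hAle (subset_closure (Set.mem_insert x _))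

end IsEx

/-- A spin character for the central element `c`. -/
def IsSpin {G : Type u} [Group G] (c : G) (m : ℕ) (χ : G → ℂ) : Prop :=
  IsCharacter G χ ∧ ∃ d : ℕ, χ 1 = d ∧ χ c = -d ∧ 2 * d * d = m

theorem neg_apply {G : Type u} [Group G] [Finite G] {χ : G → ℂ} (hχ : IsCharacter G χ) {c : G}
    (hc : χ c = -χ 1) (x : G) : χ (c * x) = -χ x := by
  obtain ⟨n, ρ, rfl⟩ := hχ
  rw [ρ.char_one] at hc
  obtain ⟨ω, hω, hω'⟩ := Char.scalar_of_norm_character_eq ρ c (by rw [hc, norm_neg, Complex.norm_natCast])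
  have h1 : ρ.character (c * x) = ω * ρ.character x := by
    show LinearMap.trace ℂ _ (ρ (c * x)) = ω * LinearMap.trace ℂ _ (ρ x)
    rw [map_mul, hω, ← smul_eq_mul ω (LinearMap.trace ℂ _ (ρ x)), ← map_smul]
    congr 1
  rcases eq_or_ne (Module.finrank ℂ (Fin n → ℂ)) 0 with h0 | h0
  · haveI : Subsingleton (Fin n → ℂ) := Module.finrank_zero_iff.1 h0
    show LinearMap.trace ℂ _ (ρ (c * x)) = -LinearMap.trace ℂ _ (ρ x)
    rw [Subsingleton.elim (ρ (c * x)) 0, Subsingleton.elim (ρ x) 0]
    simp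
  · have h2 : ω = -1 := by
      have h3 := hc.symm.trans hω'
      have : (-1 : ℂ) * (Module.finrank ℂ (Fin n → ℂ) : ℂ) = ω * (Module.finrank ℂ (Fin n → ℂ) : ℂ) := by
        rw [neg_one_mul]; exact h3
      exact (mul_right_cancel₀ (Nat.cast_ne_zero.2 h0) this).symm
    rw [h1, h2, neg_one_mul]

namespace IsSpin

variable [Finite E] (h : IsEx z) {m : ℕ}
include h

theorem vanish {χ : E → ℂ} (hχ : IsSpin z m χ) {a : E} (ha : a ∉ zpowers z) : χ a = 0 := by
  obtain ⟨hc, d, hd1, hdz, -⟩ := hχ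
  obtain ⟨b, hb⟩ : ∃ b, a * b ≠ b * a := by
    by_contra! hall
    exact ha (h.mem_zpowers.2 (h.nd a hall))
  have h1 : b * a * b⁻¹ = z * a := by
    rw [(h.comm b a).resolve_left fun e => hb e.symm]
    group
  have h2 : χ (b * a * b⁻¹) = χ a := Char.isClassFunction_of_isCharacter hc a b
  rw [h1, neg_apply hc (by rw [hdz, hd1]) a] at h2
  linear_combination (-1 / 2 : ℂ) * h2

theorem eq {χ χ' : E → ℂ} (hχ : IsSpin z (Nat.card E) χ) (hχ' : IsSpin z (Nat.card E) χ') : χ = χ' := by
  funext a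
  obtain ⟨d, hd1, hdz, hd⟩ := hχ.2
  obtain ⟨d', hd1', hdz', hd'⟩ := hχ'.2
  have hdd : d = d' := by nlinarith
  subst hdd
  by_cases ha : a ∈ zpowers z
  · rcases h.mem_zpowers.1 ha with rfl | rfl
    · rw [hd1, hd1']
    · rw [hdz, hdz']
  · rw [hχ.vanish h ha, hχ'.vanish h ha]

theorem isIrr {χ : E → ℂ} (hχ : IsSpin z (Nat.card E) χ) : IsIrrCharacter E χ := by
  classical
  haveI := Fintype.ofFinite E
  rw [Char.isIrr_iff_norm_one hχ.1]
  obtain ⟨d, hd1, hdz, hd⟩ := hχ.2
  have hsum : ∑ a : E, χ a * (starRingEnd ℂ) (χ a) = ∑ a ∈ ({1, z} : Finset E), χ a * (starRingEnd ℂ) (χ a) := by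
    refine (Finset.sum_subset (Finset.subset_univ _) fun a _ ha => ?_).symm
    rw [hχ.vanish h (fun e => ha (by simpa using h.mem_zpowers.1 e)), zero_mul]
  have hpair : ∑ a ∈ ({1, z} : Finset E), χ a * (starRingEnd ℂ) (χ a) = (Nat.card E : ℂ) := by
    rw [Finset.sum_pair h.z_ne.symm, hd1, hdz, map_neg, map_natCast, ← hd]
    push_cast
    ring
  simp only [classInner]
  rw [hsum, hpair, inv_mul_cancel₀ (Nat.cast_ne_zero.2 Nat.card_pos.ne')]

end IsSpin

theorem indFun_central {G : Type u} [Group G] [Fintype G] (H : Subgroup G) (θ : H → ℂ) (c : G)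
    (hc : c ∈ center G) (hcH : c ∈ H) : indFun H θ c = (H.index : ℂ) * θ ⟨c, hcH⟩ := by
  have h1 : ∀ x : G, extendByZero H θ (x⁻¹ * c * x) = θ ⟨c, hcH⟩ := fun x => by
    rw [mul_assoc, ← mem_center_iff.1 hc x, inv_mul_cancel_left]
    exact Char.extendByZero_coe H θ ⟨c, hcH⟩
  have hH : (Nat.card H : ℂ) ≠ 0 := Nat.cast_ne_zero.2 Nat.card_pos.ne'
  simp only [indFun, h1, Finset.sum_const, Finset.card_univ, nsmul_eq_mul]
  rw [← Nat.card_eq_fintype_card, ← H.index_mul_card]
  push_cast
  field_simp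

theorem exists_spin [Finite E] (h : IsEx z) : ∃ χ, IsSpin z (Nat.card E) χ := by
  classical
  haveI := Fintype.ofFinite E
  obtain ⟨A, hzA, hA⟩ := h.exists_maxAbelian
  letI : CommGroup A := { (inferInstance : Group A) with
    mul_comm := fun x y => Subtype.ext
      (mem_centralizer_iff.1 (hA.ge y.2 : (y : E) ∈ centralizer (A : Set E)) x x.2) }
  obtain ⟨φ, hφ⟩ := CommGroup.exists_apply_ne_one_of_hasEnoughRootsOfUnity A ℂ
    (a := (⟨z, hzA⟩ : A)) fun e => h.z_ne (congrArg Subtype.val e)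
  have hφz : (φ ⟨z, hzA⟩ : ℂ) = -1 := by
    have h2 : (φ ⟨z, hzA⟩ : ℂ) * φ ⟨z, hzA⟩ = 1 := by
      rw [← Units.val_mul, ← map_mul, show (⟨z, hzA⟩ : A) * ⟨z, hzA⟩ = 1 from Subtype.ext h.z_sq, map_one]
      rfl
    rcases mul_self_eq_one_iff.1 h2 with h3 | h3
    · exact absurd (Units.ext h3) hφ
    · exact h3
  refine ⟨indFun A (fun a => (φ a : ℂ)), Char.isCharacter_indFun A (Char.isCharacter_hom φ), A.index, ?_, ?_, ?_⟩
  · rw [Char.indFun_apply_one, map_one]; simp
  · rw [indFun_central A _ z (mem_center_iff.2 fun b => (h.z_comm b).symm) hzA, hφz, mul_neg_one]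
  · have h1 := h.card_centralizer_of_mem hzA
    rw [hA] at h1
    have h2 := A.index_mul_card
    have h3 : Nat.card A = 2 * A.index :=
      Nat.eq_of_mul_eq_mul_right (Nat.card_pos (α := A)) (by rw [h1, ← h2]; ring)
    rw [← h2, h3]; ring

end Cfsg.Agent.SpinExt
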