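import Cfsg.Agent.SpinExt.Semi

/-!
# Central products and subgroups of index two
-/

set_option autoImplicit false

namespace Cfsg.Agent.SpinExt

open Subgroup Cfsg.Agent SemidirectProduct

universe u

variable {E P : Type u} [Group E] [Finite E] [Group P] [Finite P] {z : E} {φ : P →* MulAut E}

theorem IsEx.of_factor (h : IsEx z) {A B : Subgroup E} (hzA : z ∈ A)
    (hAB : ∀ a ∈ A, ∀ b ∈ B, a * b = b * a) (hgen : ∀ e : E, ∃ a ∈ A, ∃ b ∈ B, e = a * b) :
    IsEx (⟨z, hzA⟩ : A) where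
  z_ne := fun e => h.z_ne (congrArg Subtype.val e)
  z_sq := Subtype.ext h.z_sq
  sq := fun a => (h.sq a).imp (fun e => Subtype.ext e) fun e => Subtype.ext e
  comm := fun a b => (h.comm a b).imp (fun e => Subtype.ext e) fun e => Subtype.ext e
  nd := fun a ha => by
    refine (h.nd a fun e => ?_).imp (fun e => Subtype.ext e) fun e => Subtype.ext e
    obtain ⟨x, hx, y, hy, rfl⟩ := hgen e
    have h1 : (a : E) * x = x * a := congrArg Subtype.val (ha ⟨x, hx⟩)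
    rw [← mul_assoc, h1, mul_assoc, hAB a a.2 y hy, mul_assoc]

/-- Central factors. -/
structure Factors (z : E) (A B : Subgroup E) : Prop where
  memA : z ∈ A
  memB : z ∈ B
  comm : ∀ a ∈ A, ∀ b ∈ B, a * b = b * a
  inf : A ⊓ B ≤ zpowers z
  card : Nat.card A * Nat.card B = 2 * Nat.card E

omit [Finite P] in
theorem Factors.exists_mul (h : IsEx z) {A B : Subgroup E} (hF : Factors z A B) (e : E) :
    ∃ a ∈ A, ∃ b ∈ B, e = a * b := by
  let f : A × B →* E := MonoidHom.mk' (fun g => (g.1 : E) * g.2) fun g g' => by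
    show ((g.1 : E) * g'.1) * ((g.2 : E) * g'.2) = (g.1 : E) * g.2 * ((g'.1 : E) * g'.2)
    rw [mul_assoc, ← mul_assoc (g'.1 : E), hF.comm _ g'.1.2 _ g.2.2]
    simp only [mul_assoc]
  have hk : Nat.card f.ker ≤ 2 := by
    rw [← h.card_zpowers]
    have hmem : ∀ g : f.ker, (g.1.1 : E) ∈ zpowers z := fun g => hF.inf (Subgroup.mem_inf.2 ⟨g.1.1.2, by
      have h2 : (g.1.1 : E) = (g.1.2 : E)⁻¹ := eq_inv_of_mul_eq_one_left (g.2 : f g.1 = 1)
      rw [h2]
      exact B.inv_mem g.1.2.2⟩)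
    refine Nat.card_le_card_of_injective (fun g => (⟨_, hmem g⟩ : zpowers z)) fun g g' hgg => ?_
    have h1 : (g.1.1 : E) = g'.1.1 := congrArg (fun t : zpowers z => (t : E)) hgg
    refine Subtype.ext (Prod.ext (Subtype.ext h1) (Subtype.ext ?_))
    have h2 : (g.1.1 : E) * g.1.2 = g'.1.1 * g'.1.2 := (g.2 : f g.1 = 1).trans (g'.2 : f g'.1 = 1).symm
    rw [h1] at h2
    exact mul_left_cancel h2
  have h1 := f.ker.index_mul_card
  rw [Subgroup.index_ker, Nat.card_prod, hF.card] at h1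
  have h2 : Nat.card E ≤ Nat.card f.range := by nlinarith
  obtain ⟨g, hg⟩ : e ∈ f.range := by
    rw [Subgroup.eq_top_of_le_card f.range h2]; exact mem_top e
  exact ⟨g.1, g.1.2, g.2, g.2.2, hg.symm⟩

/-- The product of spin characters of two central factors. -/
theorem tensor (h : IsEx z) (hz : ∀ p, φ p z = z) {A B : Subgroup E} (hF : Factors z A B)
    (hA : ∀ p, ∀ a ∈ A, φ p a ∈ A) (hB : ∀ p, ∀ a ∈ B, φ p a ∈ B)
    (χA : A ⋊[resHom φ A hA] P → ℂ) (hχA : IsSpin (inl (⟨z, hF.memA⟩ : A)) (Nat.card A) χA)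
    (χB : B ⋊[resHom φ B hB] P → ℂ) (hχB : IsSpin (inl (⟨z, hF.memB⟩ : B)) (Nat.card B) χB) :
    ∃ χ : E ⋊[φ] P → ℂ, IsSpin (inl z) (Nat.card E) χ ∧
      ∀ (a : A) (b : B) (x : P), χ ⟨(a : E) * b, x⟩ = χA ⟨a, x⟩ * χB ⟨b, x⟩ := by
  let X := A ⋊[resHom φ A hA] P
  let Y := B ⋊[resHom φ B hB] P
  let Γ : Subgroup (X × Y) := MonoidHom.eqLocus
    ((rightHom : X →* P).comp (MonoidHom.fst X Y)) ((rightHom : Y →* P).comp (MonoidHom.snd X Y))
  have hΓ : ∀ g : Γ, g.1.1.right = g.1.2.right := fun g => g.2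
  let m : Γ →* E ⋊[φ] P := MonoidHom.mk' (fun g => ⟨(g.1.1.left : E) * g.1.2.left, g.1.1.right⟩) fun g g' => by
    refine SemidirectProduct.ext ?_ rfl
    show ((g.1.1.left * resHom φ A hA g.1.1.right g'.1.1.left : A) : E) *
      ((g.1.2.left * resHom φ B hB g.1.2.right g'.1.2.left : B) : E) =
      (g.1.1.left : E) * g.1.2.left * φ g.1.1.right ((g'.1.1.left : E) * g'.1.2.left)
    rw [map_mul, Subgroup.coe_mul, Subgroup.coe_mul, resHom_apply, resHom_apply, ← hΓ g, mul_assoc,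
      ← mul_assoc (φ g.1.1.right (g'.1.1.left : E)),
      hF.comm _ (hA _ _ g'.1.1.left.2) _ g.1.2.left.2]
    simp only [mul_assoc]
  have hm : Function.Surjective m := fun g => by
    obtain ⟨a, ha, b, hb, hab⟩ := hF.exists_mul h g.left
    exact ⟨⟨(⟨⟨a, ha⟩, g.right⟩, ⟨⟨b, hb⟩, g.right⟩), rfl⟩, SemidirectProduct.ext hab.symm rfl⟩
  let χΓ : Γ → ℂ := fun g => χA g.1.1 * χB g.1.2
  have hc : IsCharacter Γ χΓ :=
    Char.isCharacter_mul (Char.isCharacter_comp ((MonoidHom.fst X Y).comp Γ.subtype) hχA.1)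
      (Char.isCharacter_comp ((MonoidHom.snd X Y).comp Γ.subtype) hχB.1)
  obtain ⟨-, dA, hA1, hAz, hdA⟩ := hχA
  obtain ⟨-, dB, hB1, hBz, hdB⟩ := hχB
  have hker : ∀ g ∈ m.ker, χΓ g = χΓ 1 := by
    intro g hg
    have hl : (g.1.1.left : E) * g.1.2.left = 1 := congrArg SemidirectProduct.left (hg : m g = 1)
    have hr : g.1.1.right = 1 := congrArg SemidirectProduct.right (hg : m g = 1)
    have he : (g.1.1.left : E) = (g.1.2.left : E)⁻¹ := eq_inv_of_mul_eq_one_left hl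
    rcases h.mem_zpowers.1 (hF.inf (Subgroup.mem_inf.2 ⟨g.1.1.left.2, he ▸ B.inv_mem g.1.2.left.2⟩)) with h1 | h1
    · have e1 : g.1.1 = 1 := SemidirectProduct.ext (Subtype.ext h1) hr
      have e2 : g.1.2 = 1 := SemidirectProduct.ext
        (Subtype.ext (show (g.1.2.left : E) = 1 by rw [h1, one_mul] at hl; exact hl))
        ((hΓ g).symm.trans hr)
      show χA g.1.1 * χB g.1.2 = χA 1 * χB 1
      rw [e1, e2]
    · have e1 : g.1.1 = inl (⟨z, hF.memA⟩ : A) := SemidirectProduct.ext (Subtype.ext h1) hr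
      have e2 : g.1.2 = inl (⟨z, hF.memB⟩ : B) := SemidirectProduct.ext
        (Subtype.ext (show (g.1.2.left : E) = z by
          rw [h1] at hl; rw [← inv_eq_of_mul_eq_one_right hl, h.z_inv]))
        ((hΓ g).symm.trans hr)
      show χA g.1.1 * χB g.1.2 = χA 1 * χB 1
      rw [e1, e2, hAz, hBz, hA1, hB1]
      ring
  obtain ⟨ψ, hψ, hψm⟩ := Char.IsChar.exists_quotient m.ker hc hker
  let e := QuotientGroup.quotientKerEquivOfSurjective m hm
  have key : ∀ g : Γ, ψ (e.symm (m g)) = χΓ g := fun g => by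
    have h1 : e.symm (m g) = (g : Γ ⧸ m.ker) := (MulEquiv.symm_apply_eq e).2 rfl
    rw [h1, hψm g]
  refine ⟨fun x => ψ (e.symm x), ⟨Char.isCharacter_comp e.symm.toMonoidHom hψ, dA * dB, ?_, ?_, ?_⟩,
    fun a b x => key ⟨(⟨a, x⟩, ⟨b, x⟩), rfl⟩⟩
  · show ψ (e.symm 1) = _
    rw [← map_one m, key 1]
    show χA 1 * χB 1 = _
    rw [hA1, hB1]; push_cast; ring
  · show ψ (e.symm (inl z)) = _
    have : m ⟨(inl (⟨z, hF.memA⟩ : A), 1), rfl⟩ = inl z := SemidirectProduct.ext (mul_one z) rfl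
    rw [← this, key]
    show χA (inl _) * χB 1 = _
    rw [hAz, hB1]; push_cast; ring
  · have h1 := hF.card
    rw [← hdA, ← hdB] at h1
    nlinarith

omit [Finite E] in
/-- Invariance under `P` follows from invariance under one element outside a subgroup of index two. -/
theorem inv_of_gen (P₀ : Subgroup P) [P₀.Normal] (hidx : P₀.index = 2) (t : P) (ht : t ∉ P₀)
    (χ₀ : E ⋊[φ.comp P₀.subtype] P₀ → ℂ) (hc : IsCharacter _ χ₀)
    (hinv : ∀ (e : E) (y : P₀),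
      χ₀ ⟨φ t e, ⟨t * y * t⁻¹, Subgroup.Normal.conj_mem inferInstance (y : P) y.2 t⟩⟩ = χ₀ ⟨e, y⟩)
    (p : P) (e : E) (y : P₀) :
    χ₀ ⟨φ p e, ⟨p * y * p⁻¹, Subgroup.Normal.conj_mem inferInstance (y : P) y.2 p⟩⟩ = χ₀ ⟨e, y⟩ := by
  have h0 : ∀ (x : P₀) (e : E) (y : P₀),
      χ₀ ⟨φ (x : P) e, ⟨x * y * (x : P)⁻¹, Subgroup.Normal.conj_mem inferInstance (y : P) y.2 x⟩⟩ = χ₀ ⟨e, y⟩ := by
    intro x e y
    refine Eq.trans (congrArg χ₀ ?_) (Char.isClassFunction_of_isCharacter hc ⟨e, y⟩ (inr x))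
    refine SemidirectProduct.ext ?_ (Subtype.ext ?_) <;> simp
  by_cases hp : p ∈ P₀
  · exact h0 ⟨p, hp⟩ e y
  · have hx : p * t⁻¹ ∈ P₀ := by
      rw [Subgroup.mul_mem_iff_of_index_two hidx]
      exact iff_of_false hp (fun h => ht (by simpa using inv_mem h))
    rw [← hinv e y, ← h0 ⟨p * t⁻¹, hx⟩ (φ t e) ⟨t * y * t⁻¹, Subgroup.Normal.conj_mem inferInstance (y : P) y.2 t⟩]
    refine congrArg χ₀ (SemidirectProduct.ext ?_ (Subtype.ext ?_))
    · show φ p e = φ (p * t⁻¹) (φ t e)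
      rw [← MulAut.mul_apply, ← map_mul, inv_mul_cancel_right]
    · show p * y * p⁻¹ = p * t⁻¹ * (t * y * t⁻¹) * (p * t⁻¹)⁻¹
      group

omit [Finite E] in
theorem isCyclic_of_index_two (P₀ : Subgroup P) [P₀.Normal] (hidx : P₀.index = 2) : IsCyclic (P ⧸ P₀) := by
  haveI : Fact (Nat.Prime 2) := ⟨Nat.prime_two⟩
  exact isCyclic_of_prime_card (p := 2) hidx

/-- Tensor induction from a subgroup of index two. -/
theorem swap (h : IsEx z) (hz : ∀ p, φ p z = z) (P₀ : Subgroup P) [P₀.Normal] (hidx : P₀.index = 2)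
    (t : P) (ht : t ∉ P₀) {A B : Subgroup E} (hF : Factors z A B)
    (hA : ∀ x : P₀, ∀ a ∈ A, φ x a ∈ A) (hB : ∀ x : P₀, ∀ a ∈ B, φ x a ∈ B)
    (htA : ∀ a ∈ A, φ t a ∈ B) (htB : ∀ b ∈ B, φ t b ∈ A)
    (χA : A ⋊[resHom (φ.comp P₀.subtype) A hA] P₀ → ℂ)
    (hχA : IsSpin (inl (⟨z, hF.memA⟩ : A)) (Nat.card A) χA) : Spin φ z := by
  let f : B →* A := MonoidHom.mk' (fun b => ⟨φ t b, htB b b.2⟩) fun b b' => Subtype.ext (map_mul (φ t) (b : E) b')
  let g : P₀ →* P₀ := (MulAut.conjNormal t : MulAut P₀).toMonoidHom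
  let F : B ⋊[resHom (φ.comp P₀.subtype) B hB] P₀ →* A ⋊[resHom (φ.comp P₀.subtype) A hA] P₀ :=
    SemidirectProduct.map f g fun x => MonoidHom.ext fun b => Subtype.ext (by
      show φ t (φ x b) = φ ((MulAut.conjNormal t x : P₀) : P) (φ t b)
      rw [MulAut.conjNormal_apply]
      simp [map_mul])
  have hcard : Nat.card A = Nat.card B := le_antisymm
    (Nat.card_le_card_of_injective (fun a : A => (⟨φ t a, htA a a.2⟩ : B))
      fun a a' e => Subtype.ext ((φ t).injective (congrArg (fun b : B => (b : E)) e)))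
    (Nat.card_le_card_of_injective (fun b : B => (⟨φ t b, htB b b.2⟩ : A))
      fun a a' e => Subtype.ext ((φ t).injective (congrArg (fun b : A => (b : E)) e)))
  have hχB : IsSpin (inl (⟨z, hF.memB⟩ : B) : B ⋊[resHom (φ.comp P₀.subtype) B hB] P₀) (Nat.card B)
      (fun x => χA (F x)) := by
    rw [← hcard]
    exact hχA.comp F (SemidirectProduct.ext (Subtype.ext (by simp [F, f, hz])) (by simp [F]))
  obtain ⟨χ₀, hχ₀, hval⟩ := tensor (φ := φ.comp P₀.subtype) h (fun x => hz x) hF hA hB χA hχA _ hχB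
  refine spin_extend h P₀ (isCyclic_of_index_two P₀ hidx) χ₀ hχ₀
    (inv_of_gen P₀ hidx t ht χ₀ hχ₀.1 fun e y => ?_)
  obtain ⟨a, ha, b, hb, rfl⟩ := hF.exists_mul h e
  have he : φ t (a * b) = φ t b * φ t a := by rw [map_mul, hF.comm _ (htB b hb) _ (htA a ha)]
  rw [he]
  refine (hval ⟨φ t b, htB b hb⟩ ⟨φ t a, htA a ha⟩ _).trans (Eq.trans ?_ (hval ⟨a, ha⟩ ⟨b, hb⟩ y).symm)
  rw [mul_comm]
  congr 1
  have htt : t * t ∈ P₀ := Subgroup.mul_self_mem_of_index_two hidx t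
  refine Eq.trans (congrArg χA ?_) (Char.isClassFunction_of_isCharacter hχA.1
    (⟨⟨a, ha⟩, y⟩ : A ⋊[resHom (φ.comp P₀.subtype) A hA] P₀) (inr ⟨t * t, htt⟩))
  refine SemidirectProduct.ext (Subtype.ext ?_) (Subtype.ext ?_)
  · have e2 : φ t (φ t a) = φ (t * t) a := by rw [map_mul]; rfl
    simp [F, f]
    exact e2
  · simp [F, g, mul_assoc]

end Cfsg.Agent.SpinExt
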