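import Cfsg.Agent.SpinExt.Norm
import Mathlib.GroupTheory.Abelianization.Defs

/-!
# The central quotient as an additive group with its endomorphism ring
-/

set_option autoImplicit false

namespace Cfsg.Agent.SpinExt

open Subgroup

universe u

variable {E : Type u} [Group E] {z : E}

/-- The central quotient, additively. -/
abbrev Vs (E : Type u) [Group E] : Type u := Additive (Abelianization (E ⧸ center E))

/-- The projection. -/
def pv (a : E) : Vs E := Additive.ofMul (Abelianization.of (QuotientGroup.mk a : E ⧸ center E))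

theorem pv_mul (a b : E) : pv (a * b) = pv a + pv b := by
  simp only [pv, QuotientGroup.mk_mul, map_mul, ofMul_mul]

theorem pv_one : pv (1 : E) = 0 := by simp [pv]

theorem pv_inv (a : E) : pv a⁻¹ = -pv a := by
  simp only [pv, QuotientGroup.mk_inv, map_inv, ofMul_inv]

theorem pv_surjective : Function.Surjective (pv (E := E)) := by
  intro v
  obtain ⟨x, hx⟩ := QuotientGroup.mk_surjective (Additive.toMul v)
  obtain ⟨a, rfl⟩ := QuotientGroup.mk_surjective x
  exact ⟨a, congrArg Additive.ofMul hx⟩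

/-- The induced endomorphism. -/
def Tv : MulAut E →* AddMonoid.End (Vs E) where
  toFun ψ := MonoidHom.toAdditive (Abelianization.map (QuotientGroup.map (center E) (center E) ψ.toMonoidHom
    fun a ha => mem_center_iff.2 fun b => by
      show b * ψ a = ψ a * b
      obtain ⟨b, rfl⟩ := ψ.surjective b
      rw [← map_mul, ← map_mul, mem_center_iff.1 ha b]))
  map_one' := by
    refine AddMonoidHom.ext fun v => ?_
    obtain ⟨a, rfl⟩ := pv_surjective v
    rfl
  map_mul' ψ ψ' := by
    refine AddMonoidHom.ext fun v => ?_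
    obtain ⟨a, rfl⟩ := pv_surjective v
    rfl

theorem Tv_pv (ψ : MulAut E) (a : E) : Tv ψ (pv a) = pv (ψ a) := rfl

theorem End.ext_pv {x y : AddMonoid.End (Vs E)} (h : ∀ a, x (pv a) = y (pv a)) : x = y :=
  AddMonoidHom.ext fun v => by
    obtain ⟨a, rfl⟩ := pv_surjective v
    exact h a

namespace IsEx

variable (h : IsEx z)
include h

theorem center_eq : center E = zpowers z :=
  le_antisymm (fun a ha => h.mem_zpowers.2 (h.nd a fun b => (mem_center_iff.1 ha b).symm)) h.zpowers_le_center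

theorem pv_eq_zero {a : E} : pv a = 0 ↔ a ∈ zpowers z := by
  rw [← h.center_eq]
  show Abelianization.of (QuotientGroup.mk a : E ⧸ center E) = 1 ↔ _
  rw [← MonoidHom.mem_ker, Abelianization.ker_of]
  have hbot : commutator (E ⧸ center E) = ⊥ := by
    rw [_root_.commutator_def, eq_bot_iff, Subgroup.commutator_le]
    intro x _ y _
    obtain ⟨x, rfl⟩ := QuotientGroup.mk_surjective x
    obtain ⟨y, rfl⟩ := QuotientGroup.mk_surjective y
    rw [Subgroup.mem_bot, commutatorElement_def, ← QuotientGroup.mk_inv, ← QuotientGroup.mk_inv, ← QuotientGroup.mk_mul,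
      ← QuotientGroup.mk_mul, ← QuotientGroup.mk_mul, QuotientGroup.eq_one_iff, h.center_eq, h.mem_zpowers]
    exact h.commutator_mem x y
  rw [hbot, Subgroup.mem_bot, QuotientGroup.eq_one_iff]

theorem pv_eq {a b : E} (e : pv a = pv b) : a = b ∨ a = z * b := by
  have h1 : pv (a * b⁻¹) = 0 := by rw [pv_mul, pv_inv, e, add_neg_cancel]
  rcases h.mem_zpowers.1 (h.pv_eq_zero.1 h1) with e | e
  · exact Or.inl (mul_inv_eq_one.1 e)
  · exact Or.inr (mul_inv_eq_iff_eq_mul.1 e)

theorem pv_z : pv z = 0 := h.pv_eq_zero.2 (Subgroup.mem_zpowers z)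

theorem add_self (v : Vs E) : v + v = 0 := by
  obtain ⟨a, rfl⟩ := pv_surjective v
  rw [← pv_mul, h.pv_eq_zero, h.mem_zpowers]
  exact h.sq a

theorem neg_eq (v : Vs E) : -v = v := neg_eq_of_add_eq_zero_left (h.add_self v)

theorem end_add_self (x : AddMonoid.End (Vs E)) : x + x = 0 := AddMonoidHom.ext fun v => h.add_self (x v)

theorem end_neg_eq (x : AddMonoid.End (Vs E)) : -x = x := neg_eq_of_add_eq_zero_left (h.end_add_self x)

end IsEx

/-- The commutator pairing on the central quotient. -/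
noncomputable def prV (u v : Vs E) : ℂ :=
  pr (Function.surjInv pv_surjective u) (Function.surjInv pv_surjective v)

theorem prV_comm (u v : Vs E) : prV u v = prV v u := pr_comm _ _

/-- Adjointness for the pairing. -/
def Adj (x y : AddMonoid.End (Vs E)) : Prop := ∀ u v, prV (x u) v = prV u (y v)

theorem Adj.symm {x y : AddMonoid.End (Vs E)} (hxy : Adj x y) : Adj y x := fun u v => by
  rw [prV_comm, ← hxy, prV_comm]

theorem adj_one : Adj (1 : AddMonoid.End (Vs E)) 1 := fun _ _ => rfl

theorem Adj.mul {x y x' y' : AddMonoid.End (Vs E)} (hxy : Adj x y) (hxy' : Adj x' y') :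
    Adj (x * x') (y' * y) := fun u v => by
  show prV (x (x' u)) v = prV u (y' (y v))
  rw [hxy, hxy']

namespace IsEx

variable (h : IsEx z)
include h

theorem pr_eq_of_pv {a a' : E} (ha : pv a = pv a') (b : E) : pr a b = pr a' b := by
  rcases h.pv_eq ha with rfl | rfl
  · rfl
  · rw [h.pr_mul_left, pr_eq_one.2 (h.z_comm b), one_mul]

theorem prV_pv (a b : E) : prV (pv a) (pv b) = pr a b := by
  unfold prV
  rw [h.pr_eq_of_pv (Function.surjInv_eq pv_surjective (pv a)), pr_comm,
    h.pr_eq_of_pv (Function.surjInv_eq pv_surjective (pv b)), pr_comm]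

theorem prV_add_left (u u' v : Vs E) : prV (u + u') v = prV u v * prV u' v := by
  obtain ⟨a, rfl⟩ := pv_surjective u
  obtain ⟨a', rfl⟩ := pv_surjective u'
  obtain ⟨b, rfl⟩ := pv_surjective v
  rw [← pv_mul, h.prV_pv, h.prV_pv, h.prV_pv, h.pr_mul_left]

theorem prV_add_right (u v v' : Vs E) : prV u (v + v') = prV u v * prV u v' := by
  rw [prV_comm, h.prV_add_left, prV_comm v, prV_comm v']

theorem prV_zero_left (v : Vs E) : prV 0 v = 1 := by
  obtain ⟨b, rfl⟩ := pv_surjective v
  rw [← pv_one, h.prV_pv]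
  exact pr_eq_one.2 (by simp)

theorem prV_zero_right (u : Vs E) : prV u 0 = 1 := by rw [prV_comm, h.prV_zero_left]

theorem prV_nondeg {u : Vs E} (hu : ∀ v, prV u v = 1) : u = 0 := by
  obtain ⟨a, rfl⟩ := pv_surjective u
  rw [h.pv_eq_zero, h.mem_zpowers]
  refine h.nd a fun b => pr_eq_one.1 ?_
  rw [← h.prV_pv]
  exact hu _

theorem prV_self_mul (u v : Vs E) : prV u v * prV u v = 1 := by
  rw [← h.prV_add_right, h.add_self, h.prV_zero_right]

theorem adj_zero : Adj (0 : AddMonoid.End (Vs E)) 0 := fun u v => by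
  show prV 0 v = prV u 0
  rw [h.prV_zero_left, h.prV_zero_right]

theorem adj_add {x y x' y' : AddMonoid.End (Vs E)} (hxy : Adj x y) (hxy' : Adj x' y') :
    Adj (x + x') (y + y') := fun u v => by
  show prV (x u + x' u) v = prV u (y v + y' v)
  rw [h.prV_add_left, h.prV_add_right, hxy, hxy']

theorem adj_sum {ι : Type*} (s : Finset ι) {x y : ι → AddMonoid.End (Vs E)} (hxy : ∀ i ∈ s, Adj (x i) (y i)) :
    Adj (∑ i ∈ s, x i) (∑ i ∈ s, y i) := by
  classical
  induction s using Finset.induction_on with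
  | empty => simpa using h.adj_zero
  | insert a s ha ih =>
    rw [Finset.sum_insert ha, Finset.sum_insert ha]
    exact h.adj_add (hxy a (Finset.mem_insert_self _ _)) (ih fun i hi => hxy i (Finset.mem_insert_of_mem hi))

theorem adj_unique {x y y' : AddMonoid.End (Vs E)} (h1 : Adj x y) (h2 : Adj x y') : y = y' := by
  refine AddMonoidHom.ext fun v => ?_
  have h3 : y v + y' v = 0 := h.prV_nondeg fun u => by
    rw [prV_comm, h.prV_add_right, ← h1, ← h2, h.prV_self_mul]
  exact (eq_neg_of_add_eq_zero_left h3).trans (h.neg_eq _)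

theorem adj_Tv (ψ : MulAut E) : Adj (Tv ψ) (Tv ψ⁻¹) := fun u v => by
  obtain ⟨a, rfl⟩ := pv_surjective u
  obtain ⟨b, rfl⟩ := pv_surjective v
  rw [Tv_pv, Tv_pv, h.prV_pv, h.prV_pv, ← pr_map ψ a]
  exact congrArg (pr (ψ a)) (ψ.apply_symm_apply b).symm

theorem nontrivial_vs (hE : zpowers z ≠ ⊤) : Nontrivial (Vs E) := by
  obtain ⟨a, -, ha⟩ := SetLike.exists_of_lt (lt_top_iff_ne_top.2 hE)
  exact ⟨⟨pv a, 0, fun e => ha (h.pv_eq_zero.1 e)⟩⟩

end IsEx

section Acting

variable [Finite E] {K : Type u} [Group K] [Finite K] {κ : K →* MulAut E}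

theorem Act.sum_eq_zero [Fintype K] (hA : Act z κ) (h : IsEx z) : (∑ k : K, Tv (κ k)) = 0 := by
  refine End.ext_pv fun a => ?_
  obtain ⟨w, hw, hprod⟩ := hA.exists_prod h a
  have h1 := hprod ((Abelianization.of).comp (QuotientGroup.mk' (center E)))
  have h2 : Additive.ofMul ((Abelianization.of).comp (QuotientGroup.mk' (center E)) w) = (0 : Vs E) :=
    h.pv_eq_zero.2 hw
  rw [h1] at h2
  let ev : AddMonoid.End (Vs E) →+ Vs E := AddMonoidHom.mk' (fun x => x (pv a)) fun _ _ => rfl
  show ev (∑ k : K, Tv (κ k)) = 0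
  rw [map_sum, ← h2, ofMul_prod]
  rfl

/-- An automorphism commuting with the odd group and trivial on the quotient is trivial. -/
theorem Act.eq_one_of_Tv (hA : Act z κ) (h : IsEx z) {ψ : MulAut E} (hz : ψ z = z)
    (hc : ∀ k, Commute ψ (κ k)) (hT : Tv ψ = 1) : ψ = 1 := by
  classical
  have hm : ∀ a, ψ a = a ∨ ψ a = z * a := fun a => h.pv_eq (by rw [← Tv_pv, hT]; rfl)
  let g : E →* ULift.{u} ℂˣ := MonoidHom.mk' (fun a => ⟨if ψ a = a then 1 else -1⟩) fun a b => by
    refine ULift.ext _ _ ?_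
    show (if ψ (a * b) = a * b then (1 : ℂˣ) else -1) = _
    have hz1 : ∀ c : E, z * c ≠ c := fun c e => h.z_ne (mul_eq_right.1 e)
    have hzc : ∀ c : E, z * c * z = c := fun c => by
      rw [mul_assoc, ← h.z_comm c, ← mul_assoc, h.z_sq, one_mul]
    rw [map_mul]
    rcases hm a with ea | ea <;> rcases hm b with eb | eb <;> simp only [ea, eb]
    · simp
    · simp [← mul_assoc, ← h.z_comm a, hz1]
    · simp [mul_assoc, hz1]
    · simp [← mul_assoc, hzc, hz1]
  refine MulEquiv.ext fun a => ?_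
  have h1 : g a = 1 := hA.hom_eq_one h g (by simp [g, hz]; rfl) (fun k c => by
    refine ULift.ext _ _ ?_
    show (if ψ (κ k c) = κ k c then (1 : ℂˣ) else -1) = if ψ c = c then 1 else -1
    rw [show ψ (κ k c) = κ k (ψ c) from DFunLike.congr_fun (hc k).eq c]
    simp only [(κ k).injective.eq_iff]) a
  by_contra hne
  have h2 := congrArg (fun t : ULift.{u} ℂˣ => ((t.down : ℂˣ) : ℂ)) h1
  simp [g, show ψ a ≠ a from hne] at h2
  norm_num at h2

end Acting

end Cfsg.Agent.SpinExt
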