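import Cfsg.Agent.SpinExt.Pair

/-!
# An odd group acting without fixed points on the central quotient
-/

set_option autoImplicit false

namespace Cfsg.Agent.SpinExt

open Subgroup

universe u

variable {E : Type u} [Group E] {z : E}

/-- An odd group fixing `z` and without nontrivial fixed points modulo `z`. -/
structure Act {K : Type u} [Group K] (z : E) (κ : K →* MulAut E) : Prop where
  odd : Odd (Nat.card K)
  fix_z : ∀ k, κ k z = z
  fpf : ∀ a : E, (∀ k, κ k a * a⁻¹ ∈ zpowers z) → a ∈ zpowers z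

/-- A two-group normalising such an odd group. -/
structure Cfg {P K : Type u} [Group P] [Group K] (z : E) (φ : P →* MulAut E) (κ : K →* MulAut E) : Prop where
  two : IsPGroup 2 P
  fix_z : ∀ p, φ p z = z
  act : Act z κ
  norm : ∀ p k, ∃ k', φ p * κ k = κ k' * φ p

theorem Cfg.norm_inv {P K : Type u} [Group P] [Group K] {φ : P →* MulAut E} {κ : K →* MulAut E}
    (hC : Cfg z φ κ) (p : P) (k : K) : ∃ j, φ p * κ j = κ k * φ p := by
  obtain ⟨j, hj⟩ := hC.norm p⁻¹ k
  refine ⟨j, ?_⟩
  rw [map_inv, inv_mul_eq_iff_eq_mul, ← mul_assoc] at hj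
  rw [hj, inv_mul_cancel_right]

theorem IsEx.pow_odd_eq (h : IsEx z) {M : Type u} [CommGroup M] (g : E →* M) (hg : g z = 1) (a : E) {n : ℕ}
    (hn : Odd n) : g a ^ n = g a := by
  obtain ⟨m, rfl⟩ := hn
  have h2 : g a * g a = 1 := by
    rw [← map_mul]
    rcases h.sq a with e | e <;> simp [e, hg]
  rw [pow_succ, pow_mul, pow_two, h2, one_pow, one_mul]

variable {K : Type u} [Group K] [Finite K] {κ : K →* MulAut E}

theorem Act.exists_prod (hA : Act z κ) (h : IsEx z) (a : E) :
    ∃ w ∈ zpowers z, ∀ {M : Type u} [CommMonoid M] [Fintype K] (g : E →* M), g w = ∏ k : K, g (κ k a) := by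
  classical
  haveI := Fintype.ofFinite K
  set w : E := ((Finset.univ.toList).map fun k => κ k a).prod with hw
  have hprod : ∀ {M : Type u} [CommMonoid M] (g : E →* M), g w = ∏ k : K, g (κ k a) := fun g => by
    rw [hw, map_list_prod, List.map_map]
    exact Finset.prod_map_toList _ (fun k => g (κ k a))
  refine ⟨w, hA.fpf w fun j => ?_, fun {M} _ inst g => ?_⟩
  swap
  · rw [hprod g]; congr!
  haveI := h.zpowers_normal
  letI : CommGroup (E ⧸ zpowers z) := { (inferInstance : Group (E ⧸ zpowers z)) with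
    mul_comm := fun x y => by
      obtain ⟨x, rfl⟩ := QuotientGroup.mk_surjective x
      obtain ⟨y, rfl⟩ := QuotientGroup.mk_surjective y
      rw [← QuotientGroup.mk_mul, ← QuotientGroup.mk_mul, QuotientGroup.eq]
      have h1 := h.commutator_mem y⁻¹ x⁻¹
      simpa [mul_assoc, h.mem_zpowers] using h1 }
  refine (QuotientGroup.eq_one_iff _).1 ?_
  rw [QuotientGroup.mk_mul, QuotientGroup.mk_inv, mul_inv_eq_one]
  have h1 := hprod (QuotientGroup.mk' (zpowers z))
  have h2 := hprod ((QuotientGroup.mk' (zpowers z)).comp (κ j).toMonoidHom)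
  simp only [MonoidHom.comp_apply, MulEquiv.coe_toMonoidHom, QuotientGroup.mk'_apply] at h1 h2
  rw [h2, h1]
  exact Fintype.prod_equiv (Equiv.mulLeft j) _ _ fun k => by simp [map_mul]

/-- An invariant homomorphism killing `z` is trivial. -/
theorem Act.hom_eq_one (hA : Act z κ) (h : IsEx z) {M : Type u} [CommGroup M] (g : E →* M) (hg : g z = 1)
    (hinv : ∀ k a, g (κ k a) = g a) (a : E) : g a = 1 := by
  haveI := Fintype.ofFinite K
  obtain ⟨w, hw, hprod⟩ := hA.exists_prod h a
  have h1 := hprod g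
  simp only [hinv, Finset.prod_const, Finset.card_univ] at h1
  rw [h.pow_odd_eq g hg a (Nat.card_eq_fintype_card (α := K) ▸ hA.odd)] at h1
  rw [← h1]
  rcases h.mem_zpowers.1 hw with rfl | rfl
  · exact map_one g
  · exact hg

/-- An element fixed modulo a subgroup containing `z` lies in it. -/
theorem Act.mem_of_fixed (hA : Act z κ) (h : IsEx z) (H : Subgroup E) (hzH : z ∈ H) {a : E}
    (ha : ∀ k, κ k a * a⁻¹ ∈ H) : a ∈ H := by
  haveI := Fintype.ofFinite K
  haveI hn : H.Normal := ⟨fun x hx g => by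
    rcases h.comm g x with e | e
    · rw [e, mul_inv_cancel_right]; exact hx
    · rw [e, ← mul_assoc, mul_inv_cancel_right]; exact mul_mem hzH hx⟩
  letI : CommGroup (E ⧸ H) := { (inferInstance : Group (E ⧸ H)) with
    mul_comm := fun x y => by
      obtain ⟨x, rfl⟩ := QuotientGroup.mk_surjective x
      obtain ⟨y, rfl⟩ := QuotientGroup.mk_surjective y
      rw [← QuotientGroup.mk_mul, ← QuotientGroup.mk_mul, QuotientGroup.eq]
      have h1 := h.commutator_mem y⁻¹ x⁻¹
      simp only [inv_inv] at h1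
      rw [mul_inv_rev, ← mul_assoc]
      rcases h1 with e | e <;> rw [e]
      · exact one_mem _
      · exact hzH }
  obtain ⟨w, hw, hprod⟩ := hA.exists_prod h a
  have h1 := hprod (QuotientGroup.mk' H)
  have h2 : ∀ k, QuotientGroup.mk' H (κ k a) = QuotientGroup.mk' H a := fun k => by
    rw [← mul_inv_eq_one, ← map_inv, ← map_mul]
    exact (QuotientGroup.eq_one_iff _).2 (ha k)
  simp only [h2, Finset.prod_const, Finset.card_univ] at h1
  rw [h.pow_odd_eq _ ((QuotientGroup.eq_one_iff z).2 hzH) a (Nat.card_eq_fintype_card (α := K) ▸ hA.odd)] at h1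
  refine (QuotientGroup.eq_one_iff a).1 (h1.symm.trans ((QuotientGroup.eq_one_iff w).2 ?_))
  exact (zpowers_le.2 hzH) hw

/-- The invariant projection onto the fixed points of an abelian group. -/
theorem exists_norm {X : Type u} [CommGroup X] (κ : K →* MulAut X) (hK : Odd (Nat.card K)) {c : X}
    (hc2 : c * c = 1) (hcfix : ∀ k, κ k c = c) (hfix : ∀ x, (∀ k, κ k x = x) → x = 1 ∨ x = c) :
    ∃ f : X →* X, (∀ x, f x = 1 ∨ f x = c) ∧ f c = c ∧ (∀ k x, f (κ k x) = f x) ∧
      ∀ g : X →* X, (∀ x, g x = 1 ∨ g x = c) → g c = c → (∀ k x, g (κ k x) = g x) → g = f := by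
  haveI := Fintype.ofFinite K
  obtain ⟨m, hm⟩ := Nat.card_eq_fintype_card (α := K) ▸ hK
  have hodd : ∀ y : X, (y = 1 ∨ y = c) → y ^ Fintype.card K = y := by
    rintro y (rfl | rfl)
    · exact one_pow _
    · rw [hm, pow_succ, pow_mul, pow_two, hc2, one_pow, one_mul]
  let f : X →* X := MonoidHom.mk' (fun x => ∏ k : K, κ k x) fun x y => by
    simp only [map_mul, Finset.prod_mul_distrib]
  have hval : ∀ x, f x = 1 ∨ f x = c := fun x => hfix _ fun j => by
    show κ j (∏ k : K, κ k x) = ∏ k : K, κ k x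
    rw [map_prod]
    exact Fintype.prod_equiv (Equiv.mulLeft j) _ _ fun k => by simp [map_mul]
  refine ⟨f, hval, ?_, fun j x => ?_, fun g hg hgc hginv => MonoidHom.ext fun x => ?_⟩
  · show ∏ k : K, κ k c = c
    simp only [hcfix, Finset.prod_const, Finset.card_univ]
    exact hodd c (Or.inr rfl)
  · show ∏ k : K, κ k (κ j x) = ∏ k : K, κ k x
    exact Fintype.prod_equiv (Equiv.mulRight j) _ _ fun k => by simp [map_mul]
  · have h1 : g (f x) = g x := by
      show g (∏ k : K, κ k x) = g x
      rw [map_prod]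
      simp only [hginv, Finset.prod_const, Finset.card_univ]
      exact hodd _ (hg x)
    rw [← h1]
    rcases hval x with e | e <;> rw [e]
    · exact map_one g
    · exact hgc

end Cfsg.Agent.SpinExt
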