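import Cfsg.Agent.SpinExt.Norm

/-!
# Reduction by an invariant subgroup
-/

set_option autoImplicit false

namespace Cfsg.Agent.SpinExt

open Subgroup Cfsg.Agent SemidirectProduct

universe u

/-- The induction hypothesis. -/
def Below (n : ℕ) : Prop :=
  ∀ (E P K : Type u) [Group E] [Finite E] [Group P] [Finite P] [Group K] [Finite K] (z : E)
    (φ : P →* MulAut E) (κ : K →* MulAut E), IsEx z → Cfg z φ κ → Nat.card E < n → Spin φ z

variable {E P K : Type u} [Group E] [Finite E] [Group P] [Finite P] [Group K] [Finite K] {z : E}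
  {φ : P →* MulAut E} {κ : K →* MulAut E}

/-- No proper invariant subgroup strictly contains `z`. -/
def Irred (z : E) (φ : P →* MulAut E) (κ : K →* MulAut E) : Prop :=
  ∀ H : Subgroup E, z ∈ H → (∀ p, ∀ a ∈ H, φ p a ∈ H) → (∀ k, ∀ a ∈ H, κ k a ∈ H) →
    H = zpowers z ∨ H = ⊤

omit [Finite E] in
theorem map_mem_centralizer {G : Type u} [Group G] (ψ : G →* MulAut E) {R : Subgroup E}
    (hR : ∀ p, ∀ a ∈ R, ψ p a ∈ R) : ∀ p, ∀ c ∈ centralizer (R : Set E), ψ p c ∈ centralizer (R : Set E) :=
  fun p c hc => mem_centralizer_iff.2 fun a ha => by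
    have h1 := mem_centralizer_iff.1 hc (ψ p⁻¹ a) (hR _ a ha)
    have h2 := congrArg (ψ p) h1
    simpa [map_inv] using h2

omit [Finite E] [Finite P] [Finite K] in
theorem Cfg.res (hC : Cfg z φ κ) {A : Subgroup E} (hz : z ∈ A) (hA : ∀ p, ∀ a ∈ A, φ p a ∈ A)
    (hAk : ∀ k, ∀ a ∈ A, κ k a ∈ A) : Cfg (⟨z, hz⟩ : A) (resHom φ A hA) (resHom κ A hAk) where
  two := hC.two
  fix_z := fun p => Subtype.ext (hC.fix_z p)
  act :=
    { odd := hC.act.odd
      fix_z := fun k => Subtype.ext (hC.act.fix_z k)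
      fpf := fun a ha => by
        have h1 : (a : E) ∈ zpowers z := hC.act.fpf a fun k => by
          obtain ⟨i, hi⟩ := Subgroup.mem_zpowers_iff.1 (ha k)
          exact Subgroup.mem_zpowers_iff.2 ⟨i, by simpa using congrArg Subtype.val hi⟩
        obtain ⟨i, hi⟩ := Subgroup.mem_zpowers_iff.1 h1
        exact Subgroup.mem_zpowers_iff.2 ⟨i, Subtype.ext (by simpa using hi)⟩ }
  norm := fun p k => by
    obtain ⟨k', hk⟩ := hC.norm p k
    exact ⟨k', MulEquiv.ext fun a => Subtype.ext (DFunLike.congr_fun hk (a : E))⟩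

/-- An invariant abelian subgroup gives an invariant complement to `z`. -/
theorem exists_complement (hC : Cfg z φ κ) (h : IsEx z) {R : Subgroup E} (hzR : z ∈ R)
    (hRφ : ∀ p, ∀ a ∈ R, φ p a ∈ R) (hRκ : ∀ k, ∀ a ∈ R, κ k a ∈ R)
    (hR : ∀ a ∈ R, ∀ b ∈ R, a * b = b * a) :
    ∃ L : Subgroup E, L ≤ R ∧ z ∉ L ∧ (∀ r ∈ R, r ∈ L ∨ z * r ∈ L) ∧ (∀ k, ∀ a ∈ L, κ k a ∈ L) ∧
      (∀ p, ∀ a ∈ L, φ p a ∈ L) := by
  letI : CommGroup R := { (inferInstance : Group R) with
    mul_comm := fun a b => Subtype.ext (hR a a.2 b b.2) }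
  set c : R := ⟨z, hzR⟩ with hc
  obtain ⟨f, hf, hfc, hfinv, huniq⟩ := exists_norm (resHom κ R hRκ) hC.act.odd (c := c) (Subtype.ext h.z_sq)
    (fun k => Subtype.ext (hC.act.fix_z k)) fun x hx => by
      refine (h.mem_zpowers.1 (hC.act.fpf x fun k => ?_)).imp (fun e => Subtype.ext e) fun e => Subtype.ext e
      rw [← resHom_apply κ R hRκ k x, hx k, mul_inv_cancel]
      exact one_mem _
  have hc1 : c ≠ 1 := fun e => h.z_ne (congrArg Subtype.val e)
  have hmemL : ∀ {a : E} (ha : a ∈ R), a ∈ f.ker.map R.subtype ↔ f ⟨a, ha⟩ = 1 := fun {a} ha =>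
    ⟨fun ⟨y, hy, e⟩ => by rwa [show (⟨a, ha⟩ : R) = y from Subtype.ext e.symm],
      fun e => ⟨⟨a, ha⟩, e, rfl⟩⟩
  refine ⟨f.ker.map R.subtype, map_subtype_le _, fun hz => hc1 ?_, fun r hr => ?_, fun k a ha => ?_, fun p a ha => ?_⟩
  · rw [← hfc, hc]; exact (hmemL hzR).1 hz
  · rcases hf ⟨r, hr⟩ with e | e
    · exact Or.inl ((hmemL hr).2 e)
    · refine Or.inr ((hmemL (mul_mem hzR hr)).2 ?_)
      rw [show (⟨z * r, mul_mem hzR hr⟩ : R) = c * ⟨r, hr⟩ from rfl, map_mul, hfc, e, hc]
      exact Subtype.ext h.z_sq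
  · have haR := map_subtype_le _ ha
    rw [hmemL (hRκ k a haR)]
    exact (hfinv k ⟨a, haR⟩).trans ((hmemL haR).1 ha)
  · have haR := map_subtype_le _ ha
    rw [hmemL (hRφ p a haR)]
    let ψ : MulAut R := resHom φ R hRφ p
    have hψc : ψ c = c := Subtype.ext (hC.fix_z p)
    have hg : ((ψ.symm.toMonoidHom).comp f).comp ψ.toMonoidHom = f := by
      refine huniq _ (fun x => ?_) ?_ fun k x => ?_
      · show ψ.symm (f (ψ x)) = 1 ∨ ψ.symm (f (ψ x)) = c
        rcases hf (ψ x) with e | e <;> rw [e]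
        · exact Or.inl (map_one _)
        · exact Or.inr ((MulEquiv.symm_apply_eq ψ).2 hψc.symm)
      · show ψ.symm (f (ψ c)) = c
        rw [hψc, hfc]
        exact (MulEquiv.symm_apply_eq ψ).2 hψc.symm
      · show ψ.symm (f (ψ (resHom κ R hRκ k x))) = ψ.symm (f (ψ x))
        obtain ⟨k', hk⟩ := hC.norm p k
        rw [show ψ (resHom κ R hRκ k x) = resHom κ R hRκ k' (ψ x) from
          Subtype.ext (DFunLike.congr_fun hk (x : E)), hfinv]
    have h1 := DFunLike.congr_fun hg ⟨a, haR⟩
    rw [(hmemL haR).1 ha] at h1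
    have h2 : f (ψ ⟨a, haR⟩) = ψ 1 := (MulEquiv.symm_apply_eq ψ).1 h1
    rw [map_one] at h2
    exact h2

/-- Reduction when an invariant subgroup exists. -/
theorem spin_of_not_irred (IH : Below.{u} (Nat.card E)) (h : IsEx z) (hC : Cfg z φ κ)
    (hirr : ¬ Irred z φ κ) : Spin φ z := by
  unfold Irred at hirr
  push Not at hirr
  obtain ⟨H, hzH, hHφ, hHκ, hHZ, hHtop⟩ := hirr
  have hCH := map_mem_centralizer φ hHφ
  have hCHk := map_mem_centralizer κ hHκ
  set R := H ⊓ centralizer (H : Set E) with hR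
  have hzR : z ∈ R := ⟨hzH, h.z_mem_centralizer H⟩
  by_cases hRZ : R ≤ zpowers z
  · -- tensor product
    have hF : Factors z H (centralizer (H : Set E)) :=
      { memA := hzH
        memB := h.z_mem_centralizer H
        comm := fun a ha b hb => mem_centralizer_iff.1 hb a ha
        inf := hRZ
        card := by rw [mul_comm]; exact h.card_centralizer_of_mem hzH }
    have hcardH : 2 < Nat.card H := by
      by_contra! hle
      exact hHZ (Subgroup.eq_of_le_of_card_ge (zpowers_le.2 hzH) (by rw [h.card_zpowers]; exact hle)).symm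
    have hHlt : Nat.card H < Nat.card E := lt_of_le_of_ne (card_le_card_group H)
      fun e => hHtop (eq_top_of_card_eq H e)
    have hBlt : Nat.card (centralizer (H : Set E)) < Nat.card E := by
      have h1 := hF.card
      have h2 : (Nat.card (centralizer (H : Set E))) * 3 ≤ 2 * Nat.card E := by
        rw [← h1, mul_comm (Nat.card H)]
        exact Nat.mul_le_mul_left _ hcardH
      have : 0 < Nat.card E := Nat.card_pos
      omega
    obtain ⟨χA, hχA⟩ := IH H P K ⟨z, hzH⟩ _ _
      (h.of_factor hzH hF.comm fun e => hF.exists_mul h e) (hC.res hzH hHφ hHκ) hHlt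
    obtain ⟨χB, hχB⟩ := IH (centralizer (H : Set E)) P K ⟨z, hF.memB⟩ _ _
      (h.of_factor hF.memB (fun a ha b hb => (hF.comm b hb a ha).symm) fun e => by
        obtain ⟨a, ha, b, hb, rfl⟩ := hF.exists_mul h e
        exact ⟨b, hb, a, ha, hF.comm a ha b hb⟩) (hC.res hF.memB hCH hCHk) hBlt
    obtain ⟨χ, hχ, -⟩ := tensor h hC.fix_z hF hHφ hCH χA hχA χB hχB
    exact ⟨χ, hχ⟩
  -- singular case
  have hRφ : ∀ p, ∀ a ∈ R, φ p a ∈ R := fun p a ha => ⟨hHφ p a ha.1, hCH p a ha.2⟩
  have hRκ : ∀ k, ∀ a ∈ R, κ k a ∈ R := fun k a ha => ⟨hHκ k a ha.1, hCHk k a ha.2⟩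
  have hRc : ∀ a ∈ R, ∀ b ∈ R, a * b = b * a := fun a ha b hb => mem_centralizer_iff.1 hb.2 a ha.1
  obtain ⟨L, hLR, hzL, hLZ, hLκ, hLφ⟩ := exists_complement hC h hzR hRφ hRκ hRc
  have hLne : 1 < Nat.card L := by
    rw [one_lt_card_iff_ne_bot]
    intro hL
    refine hRZ fun r hr => h.mem_zpowers.2 ?_
    rcases hLZ r hr with e | e <;> rw [hL, Subgroup.mem_bot] at e
    · exact Or.inl e
    · right; rw [eq_inv_of_mul_eq_one_right e, h.z_inv]
  set C := centralizer (L : Set E) with hCdef
  have hzC : z ∈ C := h.z_mem_centralizer L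
  have hCC : ∀ a ∈ centralizer (C : Set E), a ∈ L ∨ z * a ∈ L := fun a ha => hLZ a (by
    have hCR : centralizer (R : Set E) = C := by
      refine le_antisymm (centralizer_le hLR) fun c hc => mem_centralizer_iff.2 fun r hr => ?_
      rcases hLZ r hr with e | e
      · exact mem_centralizer_iff.1 hc r e
      · have e1 := mem_centralizer_iff.1 hc _ e
        rw [mul_assoc, ← mul_assoc c, ← h.z_comm c, mul_assoc] at e1
        exact mul_left_cancel e1
    rw [← hCR, h.centralizer_centralizer hzR] at ha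
    exact ha)
  haveI : (L.subgroupOf C).Normal := ⟨fun n hn g => by
    have e : g * n * g⁻¹ = n := by
      rw [mul_inv_eq_iff_eq_mul]
      exact Subtype.ext (mem_centralizer_iff.1 g.2 n hn).symm
    rw [e]; exact hn⟩
  have hCφ : ∀ p, ∀ a ∈ C, φ p a ∈ C := map_mem_centralizer φ hLφ
  have hCκ : ∀ k, ∀ a ∈ C, κ k a ∈ C := map_mem_centralizer κ hLκ
  let zC : C := ⟨z, hzC⟩
  let q := QuotientGroup.mk' (L.subgroupOf C)
  have hqz : q zC ≠ 1 := fun e => hzL ((QuotientGroup.eq_one_iff zC).1 e)
  have hqeq : ∀ {a : C}, q a = 1 ↔ (a : E) ∈ L := QuotientGroup.eq_one_iff _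
  have hEx : IsEx (q zC) :=
    { z_ne := hqz
      z_sq := by rw [← map_mul, show zC * zC = 1 from Subtype.ext h.z_sq, map_one]
      sq := fun x => by
        obtain ⟨a, rfl⟩ := QuotientGroup.mk'_surjective _ x
        exact (h.sq a).imp (fun e => by rw [← map_mul, show a * a = 1 from Subtype.ext e, map_one])
          fun e => by rw [← map_mul, show a * a = zC from Subtype.ext e]
      comm := fun x y => by
        obtain ⟨a, rfl⟩ := QuotientGroup.mk'_surjective _ x
        obtain ⟨b, rfl⟩ := QuotientGroup.mk'_surjective _ y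
        refine (h.comm a b).imp (fun e => ?_) fun e => ?_
        · rw [← map_mul, ← map_mul, show a * b = b * a from Subtype.ext e]
        · rw [← map_mul, ← map_mul, ← map_mul, show a * b = zC * (b * a) from Subtype.ext e]
      nd := fun x hx => by
        obtain ⟨a, rfl⟩ := QuotientGroup.mk'_surjective _ x
        have hac : (a : E) ∈ centralizer (C : Set E) := mem_centralizer_iff.2 fun b hb => by
          refine ((h.comm a b).resolve_right fun e => hqz ?_).symm
          have h1 := hx (q ⟨b, hb⟩)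
          rw [← map_mul, ← map_mul, show a * ⟨b, hb⟩ = zC * (⟨b, hb⟩ * a) from Subtype.ext e, map_mul q zC] at h1
          exact mul_eq_right.1 h1
        rcases hCC a hac with e | e
        · exact Or.inl (hqeq.2 e)
        · right
          have e' : q (zC * a) = 1 := hqeq.2 e
          rw [map_mul] at e'
          have h1 : q zC * q zC = 1 := by rw [← map_mul, show zC * zC = 1 from Subtype.ext h.z_sq, map_one]
          exact mul_left_cancel (e'.trans h1.symm) }
  have hLφ' : ∀ p, ∀ a ∈ L.subgroupOf C, resHom φ C hCφ p a ∈ L.subgroupOf C := fun p a ha => hLφ p a ha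
  have hLκ' : ∀ k, ∀ a ∈ L.subgroupOf C, resHom κ C hCκ k a ∈ L.subgroupOf C := fun k a ha => hLκ k a ha
  have hCfg : Cfg (q zC) (quotHom (resHom φ C hCφ) _ hLφ') (quotHom (resHom κ C hCκ) _ hLκ') :=
    { two := hC.two
      fix_z := fun p => by
        show q (resHom φ C hCφ p zC) = q zC
        exact congrArg q (Subtype.ext (hC.fix_z p))
      act :=
        { odd := hC.act.odd
          fix_z := fun k => by
            show q (resHom κ C hCκ k zC) = q zC
            exact congrArg q (Subtype.ext (hC.act.fix_z k))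
          fpf := fun x hx => by
            obtain ⟨a, rfl⟩ := QuotientGroup.mk'_surjective _ x
            have hmem : ∀ k, κ k a * (a : E)⁻¹ ∈ R := fun k => by
              have h1 := hx k
              rw [show quotHom (resHom κ C hCκ) _ hLκ' k (q a) = q (resHom κ C hCκ k a) from rfl, ← map_inv,
                ← map_mul, hEx.mem_zpowers] at h1
              rcases h1 with e | e
              · exact hLR (hqeq.1 e)
              · have e' : q (zC * (resHom κ C hCκ k a * a⁻¹)) = 1 := by
                  rw [map_mul, e, ← map_mul, show zC * zC = 1 from Subtype.ext h.z_sq, map_one]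
                have h2 := mul_mem hzR (hLR (hqeq.1 e'))
                rw [Subgroup.coe_mul, ← mul_assoc, h.z_sq, one_mul] at h2
                simpa using h2
            rw [hEx.mem_zpowers]
            rcases hLZ a (hC.act.mem_of_fixed h R hzR hmem) with e | e
            · exact Or.inl (hqeq.2 e)
            · right
              have e' : q (zC * a) = 1 := hqeq.2 e
              rw [map_mul] at e'
              have h1 : q zC * q zC = 1 := by rw [← map_mul, show zC * zC = 1 from Subtype.ext h.z_sq, map_one]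
              exact mul_left_cancel (e'.trans h1.symm) }
      norm := fun p k => by
        obtain ⟨k', hk⟩ := hC.norm p k
        refine ⟨k', MulEquiv.ext fun x => ?_⟩
        obtain ⟨a, rfl⟩ := QuotientGroup.mk'_surjective _ x
        exact congrArg q (Subtype.ext (DFunLike.congr_fun hk (a : E))) }
  have hLC : L ≤ C := fun a ha => mem_centralizer_iff.2 fun b hb => hRc b (hLR hb) a (hLR ha)
  have hcardC : Nat.card C * Nat.card L = Nat.card E := h.card_centralizer_of_not_mem hzL
  have hcardQ : Nat.card (C ⧸ L.subgroupOf C) * Nat.card L = Nat.card C := by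
    rw [← Nat.card_congr (subgroupOfEquivOfLe hLC).toEquiv]
    exact (Subgroup.card_eq_card_quotient_mul_card_subgroup (L.subgroupOf C)).symm
  have hlt : Nat.card (C ⧸ L.subgroupOf C) < Nat.card E := by
    have h1 : Nat.card C ≤ Nat.card E := card_le_card_group C
    have h2 : Nat.card (C ⧸ L.subgroupOf C) < Nat.card C := by
      rw [← hcardQ]
      exact lt_mul_of_one_lt_right Nat.card_pos hLne
    omega
  obtain ⟨χ, hχc, d, hd1, hdz, hd⟩ := IH _ P K (q zC) _ _ hEx hCfg hlt
  let F : C ⋊[resHom φ C hCφ] P →* (C ⧸ L.subgroupOf C) ⋊[quotHom (resHom φ C hCφ) _ hLφ'] P :=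
    SemidirectProduct.map q (MonoidHom.id P) fun p => MonoidHom.ext fun a => rfl
  have hidx : C.index = Nat.card L := by
    have h1 := C.index_mul_card
    rw [← hcardC, mul_comm (Nat.card C)] at h1
    exact Nat.eq_of_mul_eq_mul_right Nat.card_pos h1
  exact ⟨_, isSpin_indC h hC.fix_z C hCφ hzC (fun x => χ (F x)) (Char.isCharacter_comp F hχc) d
    (by simp only [map_one, hd1]) (by
      show χ (F (inl zC)) = _
      rw [show F (inl zC) = inl (q zC) from map_inl _ _ _ _, hdz])
    (by rw [hd, hidx, hcardQ])⟩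

end Cfsg.Agent.SpinExt
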