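import Cfsg.Agent.SpinExt.Reduce
import Cfsg.Agent.SpinExt.Module
import Mathlib.GroupTheory.Nilpotent

/-!
# The centre of the enveloping ring of the odd group
-/

set_option autoImplicit false

namespace Cfsg.Agent.SpinExt

open Subgroup

universe u

variable {E P K : Type u} [Group E] [Group P] [Group K] {z : E} {φ : P →* MulAut E} {κ : K →* MulAut E}

instance finite_end [Finite E] : Finite (AddMonoid.End (Vs E)) :=
  haveI : Finite (Vs E) := Finite.of_surjective _ pv_surjective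
  Finite.of_injective (fun x : AddMonoid.End (Vs E) => (x : Vs E → Vs E)) DFunLike.coe_injective

/-- The generators. -/
def gens (κ : K →* MulAut E) : Set (AddMonoid.End (Vs E)) := Set.range fun k => Tv (κ k)

/-- The centre of the enveloping ring. -/
def A0 (κ : K →* MulAut E) : Subring (AddMonoid.End (Vs E)) :=
  Subring.closure (gens κ) ⊓ Subring.centralizer (gens κ)

theorem A0.comm {a b : AddMonoid.End (Vs E)} (ha : a ∈ A0 κ) (hb : b ∈ A0 κ) : a * b = b * a := by
  have h1 : Subring.closure (gens κ) ≤ Subring.centralizer {a} := Subring.closure_le.2 fun s hs =>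
    Subring.mem_centralizer_iff.2 fun g hg => by
      rw [Set.mem_singleton_iff] at hg
      subst hg
      exact (Subring.mem_centralizer_iff.1 ha.2 s hs).symm
  exact Subring.mem_centralizer_iff.1 (h1 hb.1) a rfl

theorem A0.commute {a : AddMonoid.End (Vs E)} (ha : a ∈ A0 κ) (k : K) : Commute a (Tv (κ k)) :=
  (Subring.mem_centralizer_iff.1 ha.2 _ ⟨k, rfl⟩).symm

theorem Tv_inv_mul (φ : P →* MulAut E) (p : P) : Tv (φ p⁻¹) * Tv (φ p) = 1 := by
  rw [← map_mul, ← map_mul, inv_mul_cancel, map_one, map_one]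

theorem Tv_mul_inv (φ : P →* MulAut E) (p : P) : Tv (φ p) * Tv (φ p⁻¹) = 1 := by
  rw [← map_mul, ← map_mul, mul_inv_cancel, map_one, map_one]

/-- Conjugation on endomorphisms. -/
def cj (φ : P →* MulAut E) (p : P) : AddMonoid.End (Vs E) →+* AddMonoid.End (Vs E) where
  toFun x := Tv (φ p) * x * Tv (φ p⁻¹)
  map_one' := by rw [mul_one, Tv_mul_inv]
  map_mul' x y := by
    simp only [mul_assoc]
    rw [← mul_assoc (Tv (φ p⁻¹)) (Tv (φ p)), Tv_inv_mul, one_mul]
  map_zero' := by rw [mul_zero, zero_mul]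
  map_add' x y := by rw [mul_add, add_mul]

theorem cj_apply (φ : P →* MulAut E) (p : P) (x : AddMonoid.End (Vs E)) :
    cj φ p x = Tv (φ p) * x * Tv (φ p⁻¹) := rfl

theorem cj_one (φ : P →* MulAut E) (x : AddMonoid.End (Vs E)) : cj φ 1 x = x := by
  simp [cj_apply]

theorem cj_mul (φ : P →* MulAut E) (p q : P) (x : AddMonoid.End (Vs E)) :
    cj φ (p * q) x = cj φ p (cj φ q x) := by
  rw [cj_apply, cj_apply, cj_apply, mul_inv_rev, map_mul, map_mul, map_mul, map_mul]
  simp only [mul_assoc]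

theorem cj_injective (φ : P →* MulAut E) (p : P) : Function.Injective (cj φ p) := fun x y e => by
  have h1 := congrArg (cj φ p⁻¹) e
  rwa [← cj_mul, ← cj_mul, inv_mul_cancel, cj_one, cj_one] at h1

theorem cj_apply_Tv (φ : P →* MulAut E) (p : P) (x : AddMonoid.End (Vs E)) (v : Vs E) :
    cj φ p x (Tv (φ p) v) = Tv (φ p) (x v) := by
  show Tv (φ p) (x ((Tv (φ p⁻¹) * Tv (φ p)) v)) = _
  rw [Tv_inv_mul]
  rfl

theorem Cfg.cj_mem (hC : Cfg z φ κ) (p : P) {a : AddMonoid.End (Vs E)} (ha : a ∈ A0 κ) :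
    cj φ p a ∈ A0 κ := by
  have hg : ∀ k, ∃ k', cj φ p (Tv (κ k)) = Tv (κ k') := fun k => by
    obtain ⟨k', hk⟩ := hC.norm p k
    refine ⟨k', ?_⟩
    rw [cj_apply, ← map_mul, hk, map_mul, mul_assoc, Tv_mul_inv, mul_one]
  refine ⟨?_, Subring.mem_centralizer_iff.2 ?_⟩
  · have h1 : (Subring.closure (gens κ)).map (cj φ p) ≤ Subring.closure (gens κ) := by
      rw [RingHom.map_closure]
      refine Subring.closure_mono ?_
      rintro _ ⟨_, ⟨k, rfl⟩, rfl⟩
      obtain ⟨k', hk⟩ := hg k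
      exact ⟨k', hk.symm⟩
    exact h1 (Subring.mem_map.2 ⟨a, ha.1, rfl⟩)
  · rintro _ ⟨k, rfl⟩
    obtain ⟨j, hj⟩ := hC.norm_inv p k
    have h2 : cj φ p (Tv (κ j)) = Tv (κ k) := by
      rw [cj_apply, ← map_mul, hj, map_mul, mul_assoc, Tv_mul_inv, mul_one]
    show Tv (κ k) * _ = _ * Tv (κ k)
    rw [← h2, ← map_mul, ← map_mul, (A0.commute ha j).eq]

theorem IsEx.adj_cj (h : IsEx z) (p : P) {a b : AddMonoid.End (Vs E)} (hab : Adj a b) :
    Adj (cj φ p a) (cj φ p b) := by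
  have h1 := ((h.adj_Tv (φ p)).mul hab).mul (h.adj_Tv (φ p⁻¹))
  simp only [← map_inv, inv_inv] at h1
  simpa only [cj_apply, mul_assoc] using h1

theorem A0.exists_adj (h : IsEx z) {a : AddMonoid.End (Vs E)} (ha : a ∈ A0 κ) : ∃ b ∈ A0 κ, Adj a b := by
  have key : ∀ x ∈ Subring.closure (gens κ), ∃ b ∈ Subring.closure (gens κ), Adj x b := by
    intro x hx
    induction hx using Subring.closure_induction with
    | mem x hx =>
      obtain ⟨k, rfl⟩ := hx
      exact ⟨Tv (κ k⁻¹), Subring.subset_closure ⟨k⁻¹, rfl⟩, map_inv κ k ▸ h.adj_Tv (κ k)⟩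
    | zero => exact ⟨0, zero_mem _, h.adj_zero⟩
    | one => exact ⟨1, one_mem _, adj_one⟩
    | add x y _ _ ihx ihy =>
      obtain ⟨b, hb, hxb⟩ := ihx
      obtain ⟨b', hb', hyb⟩ := ihy
      exact ⟨b + b', add_mem hb hb', h.adj_add hxb hyb⟩
    | neg x _ ihx =>
      rw [h.end_neg_eq]
      exact ihx
    | mul x y _ _ ihx ihy =>
      obtain ⟨b, hb, hxb⟩ := ihx
      obtain ⟨b', hb', hyb⟩ := ihy
      exact ⟨b' * b, mul_mem hb' hb, hxb.mul hyb⟩
  obtain ⟨b, hb, hab⟩ := key a ha.1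
  refine ⟨b, ⟨hb, Subring.mem_centralizer_iff.2 ?_⟩, hab⟩
  rintro _ ⟨k, rfl⟩
  have h1 : Adj (Tv (κ k⁻¹)) (Tv (κ k)) := by
    have := h.adj_Tv (κ k⁻¹)
    rwa [← map_inv, inv_inv] at this
  refine h.adj_unique (hab.mul h1) ?_
  rw [(A0.commute ha k⁻¹).eq]
  exact h1.mul hab

/-- An invariant subspace with a nonzero vector is everything. -/
theorem Irred.eq_top (hirr : Irred z φ κ) (h : IsEx z) (W : AddSubgroup (Vs E))
    (hφ : ∀ p, ∀ v ∈ W, Tv (φ p) v ∈ W) (hκ : ∀ k, ∀ v ∈ W, Tv (κ k) v ∈ W)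
    (hne : ∃ v ∈ W, v ≠ 0) (v : Vs E) : v ∈ W := by
  let H : Subgroup E :=
    { carrier := {x | pv x ∈ W}
      one_mem' := by show pv 1 ∈ W; rw [pv_one]; exact zero_mem _
      mul_mem' := fun {x y} (hx : pv x ∈ W) (hy : pv y ∈ W) => by
        show pv (x * y) ∈ W; rw [pv_mul]; exact add_mem hx hy
      inv_mem' := fun {x} (hx : pv x ∈ W) => by show pv x⁻¹ ∈ W; rw [pv_inv]; exact neg_mem hx }
  obtain ⟨x, rfl⟩ := pv_surjective v
  rcases hirr H (show pv z ∈ W by rw [h.pv_z]; exact zero_mem _) (fun p a ha => hφ p _ ha)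
    (fun k a ha => hκ k _ ha) with e | e
  · obtain ⟨w, hw, hw0⟩ := hne
    obtain ⟨y, rfl⟩ := pv_surjective w
    have h1 : y ∈ H := hw
    rw [e] at h1
    exact absurd (h.pv_eq_zero.2 h1) hw0
  · have h1 : x ∈ H := e ▸ Subgroup.mem_top x
    exact h1

variable [Finite E]

/-- The centre has no square-zero element. -/
theorem A0.eq_zero_of_sq (h : IsEx z) (hC : Cfg z φ κ) (hirr : Irred z φ κ) [Nontrivial (Vs E)]
    {a : AddMonoid.End (Vs E)} (ha : a ∈ A0 κ) (hsq : a * a = 0) : a = 0 := by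
  classical
  haveI := Fintype.ofFinite (AddMonoid.End (Vs E))
  let W : AddSubgroup (Vs E) :=
    { carrier := {v | ∀ b ∈ A0 κ, b * b = 0 → b v = 0}
      zero_mem' := fun b _ _ => map_zero b
      add_mem' := fun {v w} hv hw b hb hb2 => by rw [map_add, hv b hb hb2, hw b hb hb2, add_zero]
      neg_mem' := fun {v} hv b hb hb2 => by rw [map_neg, hv b hb hb2, neg_zero] }
  have hcommon : ∀ s : Finset (AddMonoid.End (Vs E)), (∀ b ∈ s, b ∈ A0 κ ∧ b * b = 0) →
      ∃ v : Vs E, v ≠ 0 ∧ ∀ b ∈ s, b v = 0 := by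
    intro s
    induction s using Finset.induction_on with
    | empty => exact fun _ => by simpa using exists_ne (0 : Vs E)
    | insert b s hbs ih =>
      intro hs
      obtain ⟨v, hv0, hv⟩ := ih fun c hc => hs c (Finset.mem_insert_of_mem hc)
      obtain ⟨hbA, hb2⟩ := hs b (Finset.mem_insert_self _ _)
      by_cases hbv : b v = 0
      · exact ⟨v, hv0, fun c hc => by
          rcases Finset.mem_insert.1 hc with rfl | hc
          exacts [hbv, hv c hc]⟩
      · refine ⟨b v, hbv, fun c hc => ?_⟩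
        rcases Finset.mem_insert.1 hc with rfl | hc
        · show (c * c) v = 0
          rw [hb2]; rfl
        · show (c * b) v = 0
          rw [A0.comm (hs c (Finset.mem_insert_of_mem hc)).1 hbA]
          show b (c v) = 0
          rw [hv c hc, map_zero]
  refine AddMonoidHom.ext fun v => ?_
  refine hirr.eq_top h W (fun p w hw b hb hb2 => ?_) (fun k w hw b hb hb2 => ?_) ?_ v a ha hsq
  · have h1 := cj_apply_Tv φ p (cj φ p⁻¹ b) w
    rw [← cj_mul, mul_inv_cancel, cj_one] at h1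
    rw [h1, hw _ (hC.cj_mem _ hb) (by rw [← map_mul, hb2, map_zero]), map_zero]
  · show (b * Tv (κ k)) w = 0
    rw [(A0.commute hb k).eq]
    show Tv (κ k) (b w) = 0
    rw [hw b hb hb2, map_zero]
  · obtain ⟨w, hw0, hw⟩ := hcommon (Finset.univ.filter fun b => b ∈ A0 κ ∧ b * b = 0)
      fun b hb => (Finset.mem_filter.1 hb).2
    exact ⟨w, fun b hb hb2 => hw b (Finset.mem_filter.2 ⟨Finset.mem_univ _, hb, hb2⟩), hw0⟩

omit [Finite E] in
theorem sum_orth {R ι : Type*} [Ring R] (s : Finset ι) (f : ι → R) (hi : ∀ i ∈ s, f i * f i = f i)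
    (ho : ∀ i ∈ s, ∀ j ∈ s, i ≠ j → f i * f j = 0) :
    (∀ i ∈ s, f i * ∑ j ∈ s, f j = f i) ∧ (∑ j ∈ s, f j) * ∑ j ∈ s, f j = ∑ j ∈ s, f j := by
  have h1 : ∀ i ∈ s, f i * ∑ j ∈ s, f j = f i := fun i his => by
    rw [Finset.mul_sum, Finset.sum_eq_single_of_mem i his fun j hj hji => ho i his j hj (Ne.symm hji), hi i his]
  exact ⟨h1, by rw [Finset.sum_mul]; exact Finset.sum_congr rfl h1⟩

/-- A minimal idempotent. -/
theorem A0.exists_atom {i : AddMonoid.End (Vs E)} (hiA : i ∈ A0 κ) (hi : i * i = i) (hi0 : i ≠ 0)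
    (hi1 : i ≠ 1) : ∃ e ∈ A0 κ, e * e = e ∧ e ≠ 0 ∧ e ≠ 1 ∧ ∀ f ∈ A0 κ, f * f = f → e * f = 0 ∨ e * f = e := by
  haveI : Finite (Vs E) := Finite.of_surjective _ pv_surjective
  obtain ⟨e, ⟨heA, he, he0⟩, hmin⟩ := Set.exists_min_image
    {e : AddMonoid.End (Vs E) | e ∈ A0 κ ∧ e * e = e ∧ e ≠ 0} (fun e => (Set.range e).ncard) (Set.toFinite _)
    ⟨i, hiA, hi, hi0⟩
  refine ⟨e, heA, he, he0, ?_, fun f hfA hf => ?_⟩
  · rintro rfl
    have h1 := hmin i ⟨hiA, hi, hi0⟩
    have h2 : Set.range i = Set.range (1 : AddMonoid.End (Vs E)) :=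
      Set.eq_of_subset_of_ncard_le (fun v _ => ⟨v, rfl⟩) h1
    refine hi1 (AddMonoidHom.ext fun v => ?_)
    obtain ⟨w, hw⟩ := h2.ge ⟨v, rfl⟩
    have hw' : i w = v := hw
    rw [← hw']
    show (i * i) w = i w
    rw [hi]
  by_cases h0 : e * f = 0
  · exact Or.inl h0
  refine Or.inr (AddMonoidHom.ext fun v => ?_)
  have hid : e * f * (e * f) = e * f := by
    rw [mul_assoc, ← mul_assoc f e f, A0.comm hfA heA, mul_assoc, hf, ← mul_assoc, he]
  have hsub : Set.range (e * f) ⊆ Set.range e := by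
    rintro _ ⟨v, rfl⟩
    exact ⟨f v, rfl⟩
  have h2 := Set.eq_of_subset_of_ncard_le hsub (hmin _ ⟨mul_mem heA hfA, hid, h0⟩)
  obtain ⟨w, hw⟩ := h2.ge ⟨v, rfl⟩
  have hw' : (e * f) w = e v := hw
  have h3 : (e * f) ((e * f) w) = (e * f) w := by
    show (e * f * (e * f)) w = _
    rw [hid]
  rw [hw'] at h3
  refine Eq.trans ?_ h3
  show (e * f) v = (e * f * e) v
  rw [mul_assoc e f e, A0.comm hfA heA, ← mul_assoc, he]

variable [Finite P]

/-- An idempotent splits along a subgroup of index two. -/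
theorem A0.exists_split (h : IsEx z) (hC : Cfg z φ κ) (hirr : Irred z φ κ) [Nontrivial (Vs E)]
    {i : AddMonoid.End (Vs E)} (hiA : i ∈ A0 κ) (hi : i * i = i) (hi0 : i ≠ 0) (hi1 : i ≠ 1) :
    ∃ (P₀ : Subgroup P) (t : P) (a : AddMonoid.End (Vs E)), P₀.Normal ∧ P₀.index = 2 ∧ t ∉ P₀ ∧ a ∈ A0 κ ∧
      a * a = a ∧ a ≠ 0 ∧ a ≠ 1 ∧ (∀ x ∈ P₀, cj φ x a = a) ∧ cj φ t a = 1 - a ∧ (Adj a a ∨ Adj a (1 - a)) := by
  classical
  haveI := Fintype.ofFinite P
  obtain ⟨e, heA, he, he0, he1, hatom⟩ := A0.exists_atom hiA hi hi0 hi1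
  have hor : ∀ p q, cj φ p e ≠ cj φ q e → cj φ p e * cj φ q e = 0 := by
    have hkey : ∀ p, cj φ p e ≠ e → e * cj φ p e = 0 := fun p hne => by
      rcases hatom _ (hC.cj_mem p heA) (by rw [← map_mul, he]) with h1 | h1
      · exact h1
      exfalso
      rcases hatom _ (hC.cj_mem p⁻¹ heA) (by rw [← map_mul, he]) with h2 | h2
      · have h3 := congrArg (cj φ p) h2
        rw [map_mul, map_zero, ← cj_mul, mul_inv_cancel, cj_one, A0.comm (hC.cj_mem p heA) heA, h1] at h3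
        exact he0 h3
      · have h3 := congrArg (cj φ p) h2
        rw [map_mul, ← cj_mul, mul_inv_cancel, cj_one, A0.comm (hC.cj_mem p heA) heA, h1] at h3
        exact hne h3.symm
    intro p q hne
    have h1 := hkey (p⁻¹ * q) fun e' => hne (by
      rw [← mul_inv_cancel_left p q, cj_mul, e'])
    have h2 := congrArg (cj φ p) h1
    rwa [map_mul, map_zero, ← cj_mul, mul_inv_cancel_left] at h2
  let St : Subgroup P :=
    { carrier := {p | cj φ p e = e}
      one_mem' := cj_one φ e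
      mul_mem' := fun {p q} (hp : cj φ p e = e) (hq : cj φ q e = e) => by
        show cj φ (p * q) e = e
        rw [cj_mul, hq, hp]
      inv_mem' := fun {p} (hp : cj φ p e = e) => cj_injective φ p (by
        rw [← cj_mul, mul_inv_cancel, cj_one, hp]) }
  let O : Finset (AddMonoid.End (Vs E)) := Finset.univ.image fun p => cj φ p e
  have hOi : ∀ o ∈ O, o * o = o := by
    intro o ho
    obtain ⟨p, -, rfl⟩ := Finset.mem_image.1 ho
    rw [← map_mul, he]
  have hOo : ∀ o ∈ O, ∀ o' ∈ O, o ≠ o' → o * o' = 0 := by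
    intro o ho o' ho'
    obtain ⟨p, -, rfl⟩ := Finset.mem_image.1 ho
    obtain ⟨q, -, rfl⟩ := Finset.mem_image.1 ho'
    exact hor p q
  obtain ⟨hOmul, hsid⟩ := sum_orth O id hOi hOo
  simp only [id] at hOmul hsid
  set s := ∑ o ∈ O, o with hs
  have heO : e ∈ O := Finset.mem_image.2 ⟨1, Finset.mem_univ _, cj_one φ e⟩
  have hOperm : ∀ p, O.image (cj φ p) = O := fun p => by
    refine Finset.eq_of_subset_of_card_le (fun o ho => ?_) (by rw [Finset.card_image_of_injective _ (cj_injective φ p)])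
    obtain ⟨o', ho', rfl⟩ := Finset.mem_image.1 ho
    obtain ⟨q, -, rfl⟩ := Finset.mem_image.1 ho'
    exact Finset.mem_image.2 ⟨p * q, Finset.mem_univ _, cj_mul φ p q e⟩
  have hsum : ∀ p (S : Finset (AddMonoid.End (Vs E))), cj φ p (∑ o ∈ S, o) = ∑ o ∈ S.image (cj φ p), o :=
    fun p S => by rw [map_sum, Finset.sum_image fun a _ b _ e => cj_injective φ p e]
  have hOA : ∀ S ⊆ O, ∑ o ∈ S, o ∈ A0 κ := fun S hS => sum_mem fun o ho => by
    obtain ⟨p, -, rfl⟩ := Finset.mem_image.1 (hS ho)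
    exact hC.cj_mem p heA
  have hs1 : s = 1 := by
    let W : AddSubgroup (Vs E) :=
      { carrier := {v | s v = v}
        zero_mem' := map_zero s
        add_mem' := fun {v w} (hv : s v = v) (hw : s w = w) => by
          show s (v + w) = v + w
          rw [map_add, hv, hw]
        neg_mem' := fun {v} (hv : s v = v) => by show s (-v) = -v; rw [map_neg, hv] }
    refine AddMonoidHom.ext fun v => hirr.eq_top h W (fun p w hw => ?_) (fun k w hw => ?_) ?_ v
    · show s (Tv (φ p) w) = Tv (φ p) w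
      have h1 := cj_apply_Tv φ p s w
      rw [hsum, hOperm, show s w = w from hw] at h1
      exact h1
    · show (s * Tv (κ k)) w = Tv (κ k) w
      rw [(A0.commute (hOA O subset_rfl) k).eq]
      show Tv (κ k) (s w) = _
      rw [show s w = w from hw]
    · obtain ⟨v, hv⟩ : ∃ v, e v ≠ 0 := by
        by_contra! hall
        exact he0 (AddMonoidHom.ext hall)
      refine ⟨e v, ?_, hv⟩
      show (s * e) v = e v
      rw [A0.comm (hOA O subset_rfl) heA, hOmul e heO]
  -- the subgroup of index two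
  have hSt : St ≠ ⊤ := fun htop => by
    refine he1 ?_
    rw [← hs1, hs, show O = {e} from Finset.eq_singleton_iff_unique_mem.2 ⟨heO, fun o ho => by
      obtain ⟨p, -, rfl⟩ := Finset.mem_image.1 ho
      exact (htop ▸ Subgroup.mem_top p : p ∈ St)⟩, Finset.sum_singleton]
  obtain ⟨P₀, hP₀, hStP⟩ := (eq_top_or_exists_le_coatom St).resolve_left hSt
  haveI := hC.two.isNilpotent
  haveI hP₀n : P₀.Normal :=
    Subgroup.NormalizerCondition.normal_of_coatom P₀ Group.normalizerCondition_of_isNilpotent hP₀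
  have hidx : P₀.index = 2 := by
    haveI : Fact (Nat.Prime 2) := ⟨Nat.prime_two⟩
    haveI : Nontrivial (P ⧸ P₀) := by
      obtain ⟨p, -, hp⟩ := SetLike.exists_of_lt (lt_top_iff_ne_top.2 hP₀.1)
      exact ⟨⟨(p : P ⧸ P₀), 1, fun e' => hp ((QuotientGroup.eq_one_iff p).1 e')⟩⟩
    obtain ⟨n, hc⟩ := IsPGroup.iff_card.1 (hC.two.to_quotient P₀)
    have hn : 0 < n := Nat.pos_of_ne_zero fun e' => by
      have h1 : 1 < Nat.card (P ⧸ P₀) := Finite.one_lt_card
      rw [hc, e', pow_zero] at h1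
      omega
    obtain ⟨x, hx⟩ := exists_prime_orderOf_dvd_card' (G := P ⧸ P₀) 2 (hc ▸ dvd_pow_self 2 hn.ne')
    have htop : (zpowers x).comap (QuotientGroup.mk' P₀) = ⊤ := by
      refine hP₀.2 _ (lt_of_le_of_ne (fun p hp => ?_) fun e' => ?_)
      · show QuotientGroup.mk' P₀ p ∈ zpowers x
        rw [show QuotientGroup.mk' P₀ p = 1 from (QuotientGroup.eq_one_iff p).2 hp]
        exact one_mem _
      · obtain ⟨p, hp⟩ := QuotientGroup.mk'_surjective P₀ x
        have h1 : p ∈ P₀ := by rw [e']; show QuotientGroup.mk' P₀ p ∈ zpowers x; rw [hp]; exact Subgroup.mem_zpowers x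
        rw [← hp, show QuotientGroup.mk' P₀ p = 1 from (QuotientGroup.eq_one_iff p).2 h1, orderOf_one] at hx
        omega
    have htop' : zpowers x = ⊤ := by
      rw [← Subgroup.map_comap_eq_self_of_surjective (QuotientGroup.mk'_surjective P₀) (zpowers x), htop,
        Subgroup.map_top_of_surjective _ (QuotientGroup.mk'_surjective P₀)]
    rw [Subgroup.index, ← Subgroup.card_top, ← htop', Nat.card_zpowers, hx]
  obtain ⟨t, -, ht⟩ := SetLike.exists_of_lt (lt_top_iff_ne_top.2 hP₀.1)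
  let O₀ : Finset (AddMonoid.End (Vs E)) := (Finset.univ.filter fun p => p ∈ P₀).image fun p => cj φ p e
  have hO₀ : O₀ ⊆ O := Finset.image_subset_image (Finset.filter_subset _ _)
  have hmem₀ : ∀ {p}, p ∈ P₀ → cj φ p e ∈ O₀ := fun hp =>
    Finset.mem_image.2 ⟨_, Finset.mem_filter.2 ⟨Finset.mem_univ _, hp⟩, rfl⟩
  set a := ∑ o ∈ O₀, o with ha
  have haA : a ∈ A0 κ := hOA O₀ hO₀
  have haid : a * a = a :=
    (sum_orth O₀ id (fun o ho => hOi o (hO₀ ho)) fun o ho o' ho' => hOo o (hO₀ ho) o' (hO₀ ho')).2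
  have hea : e * a = e := (sum_orth O₀ id (fun o ho => hOi o (hO₀ ho))
    fun o ho o' ho' => hOo o (hO₀ ho) o' (hO₀ ho')).1 e (cj_one φ e ▸ hmem₀ (one_mem P₀))
  have hinv : ∀ x ∈ P₀, cj φ x a = a := fun x hx => by
    rw [ha, hsum]
    refine congrArg (fun S : Finset _ => ∑ o ∈ S, o) (Finset.eq_of_subset_of_card_le (fun o ho => ?_)
      (by rw [Finset.card_image_of_injective _ (cj_injective φ x)]))
    obtain ⟨o', ho', rfl⟩ := Finset.mem_image.1 ho
    obtain ⟨q, hq, rfl⟩ := Finset.mem_image.1 ho'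
    rw [← cj_mul]
    exact hmem₀ (mul_mem hx (Finset.mem_filter.1 hq).2)
  have hdisj : Disjoint O₀ (O₀.image (cj φ t)) := by
    rw [Finset.disjoint_left]
    intro o ho ho'
    obtain ⟨y, hy, rfl⟩ := Finset.mem_image.1 ho
    obtain ⟨_, ho'', e1⟩ := Finset.mem_image.1 ho'
    obtain ⟨x, hx, rfl⟩ := Finset.mem_image.1 ho''
    have h1 : y⁻¹ * (t * x) ∈ P₀ := hStP (show cj φ (y⁻¹ * (t * x)) e = e by
      rw [cj_mul, cj_mul, e1, ← cj_mul, inv_mul_cancel, cj_one])
    exact ht (by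
      have := mul_mem (mul_mem (Finset.mem_filter.1 hy).2 h1) (inv_mem (Finset.mem_filter.1 hx).2)
      simpa using this)
  have hta : cj φ t a = 1 - a := by
    rw [eq_sub_iff_add_eq, ← hs1, hs, ha, hsum, add_comm, ← Finset.sum_union hdisj]
    refine congrArg (fun S : Finset _ => ∑ o ∈ S, o) (Finset.Subset.antisymm
      (Finset.union_subset hO₀ fun o ho => ?_) fun o ho => ?_)
    · rw [← hOperm t]
      exact Finset.image_subset_image hO₀ ho
    · obtain ⟨p, -, rfl⟩ := Finset.mem_image.1 ho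
      rw [Finset.mem_union]
      by_cases hp : p ∈ P₀
      · exact Or.inl (hmem₀ hp)
      · refine Or.inr (Finset.mem_image.2 ⟨_, hmem₀ (p := t⁻¹ * p) ?_, by rw [← cj_mul, mul_inv_cancel_left]⟩)
        rw [Subgroup.mul_mem_iff_of_index_two hidx]
        exact iff_of_false (fun h' => ht (by simpa using inv_mem h')) hp
  have ha0 : a ≠ 0 := fun e' => he0 (by rw [← hea, e', mul_zero])
  have ha1 : a ≠ 1 := fun e' => by
    rw [e', map_one, sub_self] at hta
    exact ha0 (by rw [e', hta])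
  refine ⟨P₀, t, a, hP₀n, hidx, ht, haA, haid, ha0, ha1, hinv, hta, ?_⟩
  obtain ⟨f, hfA, haf⟩ := A0.exists_adj h haA
  have hfid : f * f = f := h.adj_unique (haid ▸ haf.mul haf) haf
  have hfinv : ∀ x ∈ P₀, cj φ x f = f := fun x hx => h.adj_unique ((hinv x hx) ▸ h.adj_cj x haf) haf
  have hfix : ∀ g ∈ A0 κ, g * g = g → (∀ x ∈ P₀, cj φ x g = g) → g * a = 0 ∨ g * a = a := by
    intro g hgA hg hginv
    have hall : ∀ o ∈ O₀, ∀ w, e * g = w → g * o = (cj φ (Classical.epsilon fun x => x ∈ P₀ ∧ cj φ x e = o) w) := by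
      intro o ho w hw
      obtain ⟨x, hx, hxo⟩ := Finset.mem_image.1 ho
      obtain ⟨hy, hyo⟩ := Classical.epsilon_spec
        (p := fun x => x ∈ P₀ ∧ cj φ x e = o) ⟨x, (Finset.mem_filter.1 hx).2, hxo⟩
      rw [← hw, map_mul, hyo, hginv _ hy]
      refine A0.comm hgA ?_
      rw [← hxo]
      exact hC.cj_mem x heA
    rcases hatom g hgA hg with h1 | h1
    · left
      rw [ha, Finset.mul_sum]
      exact Finset.sum_eq_zero fun o ho => by rw [hall o ho _ h1, map_zero]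
    · right
      rw [ha, Finset.mul_sum]
      refine Finset.sum_congr rfl fun o ho => ?_
      rw [hall o ho _ h1]
      obtain ⟨x, hx, hxo⟩ := Finset.mem_image.1 ho
      exact (Classical.epsilon_spec (p := fun x => x ∈ P₀ ∧ cj φ x e = o) ⟨x, (Finset.mem_filter.1 hx).2, hxo⟩).2
  have h1 := hfix f hfA hfid hfinv
  have h2 : f * (1 - a) = 0 ∨ f * (1 - a) = 1 - a := by
    have hg := hfix (cj φ t⁻¹ f) (hC.cj_mem _ hfA) (by rw [← map_mul, hfid]) fun x hx => by
      rw [← cj_mul, show x * t⁻¹ = t⁻¹ * (t * x * t⁻¹) by group, cj_mul, hfinv _ (hP₀n.conj_mem x hx t)]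
    have e1 : cj φ t (cj φ t⁻¹ f * a) = f * (1 - a) := by
      rw [map_mul, ← cj_mul, mul_inv_cancel, cj_one, hta]
    rcases hg with h' | h' <;> rw [h'] at e1
    · left; rw [← e1, map_zero]
    · right; rw [← e1, hta]
  have hfsplit : f * a + f * (1 - a) = f := by rw [← mul_add, add_sub_cancel, mul_one]
  rcases h1 with e1 | e1 <;> rcases h2 with e2 | e2 <;> rw [e1, e2] at hfsplit
  · rw [add_zero] at hfsplit
    exact absurd (h.adj_unique haf.symm (hfsplit ▸ h.adj_zero)) ha0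
  · rw [zero_add] at hfsplit
    exact Or.inr (hfsplit ▸ haf)
  · rw [add_zero] at hfsplit
    exact Or.inl (hfsplit ▸ haf)
  · rw [add_sub_cancel] at hfsplit
    exact absurd (h.adj_unique haf.symm (hfsplit ▸ adj_one)) ha1

end Cfsg.Agent.SpinExt
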