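import Cfsg.Agent.SpinExt.Basic
import Mathlib.GroupTheory.SemidirectProduct

/-!
# Spin characters of semidirect products: inflation, induction and extension
-/

set_option autoImplicit false

namespace Cfsg.Agent.SpinExt

open Subgroup Cfsg.Agent SemidirectProduct

universe u

variable {E P : Type u} [Group E] [Group P] {z : E}

instance finite_semidirect (φ : P →* MulAut E) [Finite E] [Finite P] : Finite (E ⋊[φ] P) :=
  Finite.of_equiv _ SemidirectProduct.equivProd.symm

/-- A spin character of `E ⋊ P` exists. -/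
def Spin (φ : P →* MulAut E) (z : E) : Prop :=
  ∃ χ : (E ⋊[φ] P) → ℂ, IsSpin (inl z : E ⋊[φ] P) (Nat.card E) χ

theorem IsSpin.comp {G H : Type u} [Group G] [Group H] {c : G} {c' : H} {m : ℕ} {χ : G → ℂ}
    (hχ : IsSpin c m χ) (f : H →* G) (hf : f c' = c) : IsSpin c' m (fun x => χ (f x)) := by
  obtain ⟨hc, d, hd1, hdc, hd⟩ := hχ
  exact ⟨Char.isCharacter_comp f hc, d, by simp only [map_one, hd1], by simp only [hf, hdc], hd⟩

theorem inl_central (h : IsEx z) (φ : P →* MulAut E) (hz : ∀ p, φ p z = z) :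
    (inl z : E ⋊[φ] P) ∈ center (E ⋊[φ] P) := by
  refine mem_center_iff.2 fun g => SemidirectProduct.ext ?_ ?_
  · simp [hz, h.z_comm]
  · simp

theorem Spin.comp {Q : Type u} [Group Q] {φ : P →* MulAut E} {ψ : Q →* MulAut E} (f : P →* Q)
    (hf : ∀ p, φ p = ψ (f p)) (hs : Spin ψ z) : Spin φ z := by
  obtain ⟨χ, hχ⟩ := hs
  exact ⟨_, hχ.comp (SemidirectProduct.map (MonoidHom.id E) f (fun p => by rw [hf p]; rfl)) (by simp)⟩

variable [Finite E] [Finite P] {φ : P →* MulAut E}

theorem isIrr_range {G : Type u} [Group G] {X : Type u} [Group X] (f : X →* G) (hf : Function.Injective f)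
    {χ : G → ℂ} (hχ : IsIrrCharacter X (fun x => χ (f x))) :
    IsIrrCharacter f.range (fun g : f.range => χ g) := by
  have e : (fun g : f.range => χ g) = fun g => χ (f ((MonoidHom.ofInjective hf).symm g)) :=
    funext fun g => congrArg χ (congrArg Subtype.val ((MonoidHom.ofInjective hf).apply_symm_apply g)).symm
  rw [e]
  exact (Char.isIrrCharacter_comp_equiv (χ := fun x => χ (f x)) (MonoidHom.ofInjective hf).symm).2 hχ

theorem IsSpin.res {χ : (E ⋊[φ] P) → ℂ} (hχ : IsSpin (inl z : E ⋊[φ] P) (Nat.card E) χ) :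
    IsSpin z (Nat.card E) (fun e => χ (inl e)) :=
  hχ.comp (inl : E →* E ⋊[φ] P) rfl

theorem IsSpin.irr_inl (h : IsEx z) {χ : (E ⋊[φ] P) → ℂ}
    (hχ : IsSpin (inl z : E ⋊[φ] P) (Nat.card E) χ) :
    IsIrrCharacter (inl : E →* E ⋊[φ] P).range (fun g : (inl : E →* E ⋊[φ] P).range => χ g) :=
  isIrr_range _ inl_injective (hχ.res.isIrr h)

theorem IsSpin.irr (h : IsEx z) {χ : (E ⋊[φ] P) → ℂ}
    (hχ : IsSpin (inl z : E ⋊[φ] P) (Nat.card E) χ) : IsIrrCharacter (E ⋊[φ] P) χ := by
  haveI : (inl : E →* E ⋊[φ] P).range.Normal := by rw [range_inl_eq_ker_rightHom]; infer_instance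
  exact ProjExt.isIrr_of_res hχ.1 (hχ.irr_inl h) fun _ => rfl

omit [Finite P] in
/-- The linear spin character when `E` has order two. -/
theorem spin_of_card_two (h : IsEx z) (hE : ∀ e : E, e = 1 ∨ e = z) (hz : ∀ p, φ p z = z) : Spin φ z := by
  classical
  have hfix : ∀ p e, φ p e = e := fun p e => by rcases hE e with rfl | rfl <;> simp [hz]
  let f : E ⋊[φ] P →* ℂˣ := MonoidHom.mk' (fun g => if g.left = 1 then 1 else -1) fun a b => by
    rw [mul_left, hfix]
    have hz1 := h.z_ne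
    have hzz := h.z_sq
    rcases hE a.left with e1 | e1 <;> rcases hE b.left with e2 | e2 <;> simp [e1, e2, hz1, hzz]
  refine ⟨_, Char.isCharacter_hom f, 1, by simp [f], by simp [f, h.z_ne], ?_⟩
  have hc : zpowers z = (⊤ : Subgroup E) := eq_top_iff.2 fun e _ => h.mem_zpowers.2 (hE e)
  have := h.card_zpowers
  rw [hc, Subgroup.card_top] at this
  omega

/-! ### Restricting and factoring an action -/

/-- The action on an invariant subgroup. -/
def resHom (φ : P →* MulAut E) (C : Subgroup E) (hC : ∀ p, ∀ a ∈ C, φ p a ∈ C) : P →* MulAut C where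
  toFun p :=
    { toFun := fun a => ⟨φ p a, hC p a a.2⟩
      invFun := fun a => ⟨φ p⁻¹ a, hC p⁻¹ a a.2⟩
      left_inv := fun a => Subtype.ext (by simp [map_inv])
      right_inv := fun a => Subtype.ext (by simp [map_inv])
      map_mul' := fun a b => Subtype.ext (map_mul (φ p) (a : E) b) }
  map_one' := MulEquiv.ext fun a => Subtype.ext (by simp)
  map_mul' p q := MulEquiv.ext fun a => Subtype.ext (by simp)

omit [Finite E] [Finite P] in
@[simp] theorem resHom_apply (φ : P →* MulAut E) (C : Subgroup E) (hC : ∀ p, ∀ a ∈ C, φ p a ∈ C) (p : P)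
    (a : C) : (resHom φ C hC p a : E) = φ p a := rfl

/-- The action on the quotient by an invariant normal subgroup. -/
def quotHom (φ : P →* MulAut E) (N : Subgroup E) [N.Normal] (hN : ∀ p, ∀ a ∈ N, φ p a ∈ N) :
    P →* MulAut (E ⧸ N) where
  toFun p :=
    { toFun := QuotientGroup.map N N (φ p).toMonoidHom (fun a ha => hN p a ha)
      invFun := QuotientGroup.map N N (φ p⁻¹).toMonoidHom (fun a ha => hN p⁻¹ a ha)
      left_inv := fun a => by
        induction a using QuotientGroup.induction_on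
        simp [map_inv]
      right_inv := fun a => by
        induction a using QuotientGroup.induction_on
        simp [map_inv]
      map_mul' := fun a b => map_mul _ a b }
  map_one' := MulEquiv.ext fun a => by
    induction a using QuotientGroup.induction_on
    simp
  map_mul' p q := MulEquiv.ext fun a => by
    induction a using QuotientGroup.induction_on
    simp

omit [Finite E] [Finite P] in
@[simp] theorem quotHom_mk (φ : P →* MulAut E) (N : Subgroup E) [N.Normal]
    (hN : ∀ p, ∀ a ∈ N, φ p a ∈ N) (p : P) (a : E) :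
    quotHom φ N hN p (QuotientGroup.mk a) = QuotientGroup.mk (φ p a) := rfl

/-! ### Induction -/

/-- The inclusion `C ⋊ P → E ⋊ P`. -/
def incl (φ : P →* MulAut E) (C : Subgroup E) (hC : ∀ p, ∀ a ∈ C, φ p a ∈ C) :
    C ⋊[resHom φ C hC] P →* E ⋊[φ] P :=
  SemidirectProduct.map C.subtype (MonoidHom.id P) (fun _ => rfl)

omit [Finite E] [Finite P] in
theorem incl_injective (φ : P →* MulAut E) (C : Subgroup E) (hC : ∀ p, ∀ a ∈ C, φ p a ∈ C) :
    Function.Injective (incl φ C hC) := fun a b h =>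
  SemidirectProduct.ext (Subtype.ext (congrArg (fun x : E ⋊[φ] P => x.left) h))
    (congrArg (fun x : E ⋊[φ] P => x.right) h)

/-- Induction from `C ⋊ P`. -/
noncomputable def indC (φ : P →* MulAut E) (C : Subgroup E) (hC : ∀ p, ∀ a ∈ C, φ p a ∈ C)
    (θ : C ⋊[resHom φ C hC] P → ℂ) : E ⋊[φ] P → ℂ :=
  letI := Fintype.ofFinite (E ⋊[φ] P)
  indFun (incl φ C hC).range (fun g => θ ((MonoidHom.ofInjective (incl_injective φ C hC)).symm g))

omit [Finite E] in
theorem index_incl (φ : P →* MulAut E) (C : Subgroup E) (hC : ∀ p, ∀ a ∈ C, φ p a ∈ C) [Finite E] :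
    (incl φ C hC).range.index = C.index := by
  have h1 := (incl φ C hC).range.index_mul_card
  rw [← Nat.card_congr (MonoidHom.ofInjective (incl_injective φ C hC)).toEquiv, SemidirectProduct.card,
    SemidirectProduct.card, ← C.index_mul_card, mul_assoc C.index] at h1
  exact Nat.eq_of_mul_eq_mul_right (Nat.mul_pos Nat.card_pos Nat.card_pos) h1

theorem isSpin_indC (h : IsEx z) (hz : ∀ p, φ p z = z) (C : Subgroup E) (hC : ∀ p, ∀ a ∈ C, φ p a ∈ C)
    (hzC : z ∈ C) (θ : C ⋊[resHom φ C hC] P → ℂ) (hθ : IsCharacter _ θ) (d : ℕ) (hd1 : θ 1 = d)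
    (hdz : θ (inl (⟨z, hzC⟩ : C)) = -d) (hd : 2 * d * d * C.index = Nat.card C) :
    IsSpin (inl z : E ⋊[φ] P) (Nat.card E) (indC φ C hC θ) := by
  letI := Fintype.ofFinite (E ⋊[φ] P)
  have hinj := incl_injective φ C hC
  have hzr : incl φ C hC (inl (⟨z, hzC⟩ : C)) = inl z := SemidirectProduct.map_inl _ _ _ _
  refine ⟨Char.isCharacter_indFun _ (Char.isCharacter_comp (MonoidHom.ofInjective hinj).symm.toMonoidHom hθ),
    C.index * d, ?_, ?_, ?_⟩
  · show indFun _ _ 1 = _
    rw [Char.indFun_apply_one, map_one, hd1, index_incl]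
    push_cast; ring
  · show indFun _ _ (inl z) = _
    rw [indFun_central _ _ _ (inl_central h φ hz) (MonoidHom.mem_range.2 ⟨_, hzr⟩), index_incl]
    have : (MonoidHom.ofInjective hinj).symm ⟨inl z, ⟨_, hzr⟩⟩ = inl (⟨z, hzC⟩ : C) :=
      (MulEquiv.symm_apply_eq _).2 (Subtype.ext hzr.symm)
    rw [this, hdz]
    push_cast; ring
  · rw [← C.index_mul_card, ← hd]; ring

/-! ### Extension to an overgroup with cyclic quotient -/

theorem spin_extend (h : IsEx z) (P₀ : Subgroup P) [P₀.Normal] (hcyc : IsCyclic (P ⧸ P₀))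
    (χ₀ : E ⋊[φ.comp P₀.subtype] P₀ → ℂ) (hχ : IsSpin (inl z) (Nat.card E) χ₀)
    (hinv : ∀ (p : P) (e : E) (x : P₀),
      χ₀ ⟨φ p e, ⟨p * x * p⁻¹, Subgroup.Normal.conj_mem inferInstance (x : P) x.2 p⟩⟩ = χ₀ ⟨e, x⟩) :
    Spin φ z := by
  let m : E ⋊[φ.comp P₀.subtype] P₀ →* E ⋊[φ] P :=
    SemidirectProduct.map (MonoidHom.id E) P₀.subtype (fun _ => rfl)
  have hm : Function.Injective m := fun a b h =>
    have hl : a.left = b.left := by simpa [m] using congrArg SemidirectProduct.left h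
    have hr : (a.right : P) = b.right := by simpa [m] using congrArg SemidirectProduct.right h
    SemidirectProduct.ext hl (Subtype.ext hr)
  have hN : m.range = P₀.comap (rightHom : E ⋊[φ] P →* P) := by
    refine le_antisymm ?_ fun g hg => ⟨⟨g.left, ⟨g.right, hg⟩⟩, by ext <;> simp [m]⟩
    rintro _ ⟨g, rfl⟩
    show rightHom (m g) ∈ P₀
    simp [m]
  haveI : m.range.Normal := hN ▸ Normal.comap inferInstance _
  have hq : IsCyclic ((E ⋊[φ] P) ⧸ m.range) := by
    haveI := hcyc
    refine isCyclic_of_injective (QuotientGroup.map m.range P₀ rightHom hN.le) ?_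
    rw [injective_iff_map_eq_one]
    intro g hg
    induction g using QuotientGroup.induction_on with
    | _ g =>
      rw [QuotientGroup.map_mk, QuotientGroup.eq_one_iff] at hg
      rw [QuotientGroup.eq_one_iff, hN]
      exact hg
  let θ : m.range → ℂ := fun g => χ₀ ((MonoidHom.ofInjective hm).symm g)
  have hθ : IsIrrCharacter m.range θ :=
    (Char.isIrrCharacter_comp_equiv (MonoidHom.ofInjective hm).symm).2 (hχ.irr h)
  have hθm : ∀ a (ha : m a ∈ m.range), θ ⟨m a, ha⟩ = χ₀ a := fun a ha => by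
    show χ₀ _ = _
    congr 1
    exact (MulEquiv.symm_apply_eq _).2 (Subtype.ext rfl)
  have hθinv : ∀ (g : E ⋊[φ] P) (n : m.range),
      θ ⟨g * n * g⁻¹, (inferInstance : m.range.Normal).conj_mem (n : E ⋊[φ] P) n.2 g⟩ = θ n := by
    rintro g ⟨_, a, rfl⟩
    let b : E ⋊[φ.comp P₀.subtype] P₀ := inl g.left *
      ⟨φ g.right a.left, ⟨g.right * a.right * g.right⁻¹, Subgroup.Normal.conj_mem inferInstance (a.right : P) a.right.2 g.right⟩⟩ *
        (inl g.left)⁻¹
    have hgb : g * m a * g⁻¹ = m b := by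
      simp only [b, map_mul, map_inv]
      ext <;> simp [m, mul_assoc]
    calc θ ⟨g * m a * g⁻¹, _⟩ = θ ⟨m b, ⟨b, rfl⟩⟩ := congrArg θ (Subtype.ext hgb)
      _ = χ₀ b := hθm b _
      _ = χ₀ a := by
        rw [Char.isClassFunction_of_isCharacter hχ.1 _ _]
        exact hinv _ _ _
      _ = θ ⟨m a, _⟩ := (hθm a _).symm
  obtain ⟨D⟩ := ProjExt.exists_data hθ hθinv
  obtain ⟨χ, hc, hres⟩ := D.exists_extension_of_splits (D.cocycle.splits_of_cyclic hq ProjExt.exists_root)
  obtain ⟨-, d, hd1, hdz, hd⟩ := hχ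
  refine ⟨χ, Char.IsIrr.isCharacter hc, d, ?_, ?_, hd⟩
  · rw [← hd1, ← hθm 1 ⟨1, rfl⟩, ← hres]; simp
  · rw [← hdz, ← hθm (inl z) ⟨_, rfl⟩, ← hres]
    simp [m]

end Cfsg.Agent.SpinExt
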